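import Groth.Prelude.Def_QuadGrp2
import Mathlib.AlgebraicGeometry.Morphisms.Smooth
import Mathlib.AlgebraicGeometry.Gluing
import Mathlib.AlgebraicGeometry.AffineScheme

/-!
# Schemes over an affine base are determined by their points with values in algebras
-/

set_option autoImplicit false
noncomputable section

universe u

open CategoryTheory AlgebraicGeometry Limits

namespace Groth.Agent.QuadSm

variable {R : Type u} [CommRing R]

theorem specOverMap_surjective {A B : Type u} [CommRing A] [Algebra R A] [CommRing B] [Algebra R B]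
    (f : QuadGrp.specOver R B ⟶ QuadGrp.specOver R A) :
    ∃ φ : A →ₐ[R] B, QuadGrp.specOverMap R φ = f := by
  obtain ⟨ψ, hψ⟩ := Spec.map_surjective (R := CommRingCat.of A) (S := CommRingCat.of B) f.left
  have hw : Spec.map ψ ≫ Spec.map (CommRingCat.ofHom (algebraMap R A)) =
      Spec.map (CommRingCat.ofHom (algebraMap R B)) := by rw [hψ]; exact Over.w f
  rw [← Spec.map_comp] at hw
  have hc := Spec.map_injective hw
  refine ⟨{ ψ.hom with commutes' := fun r => congrArg (fun q : CommRingCat.of R ⟶ _ => q.hom r) hc },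
    Over.OverMorphism.ext ?_⟩
  exact hψ

variable {X Y : Over (Spec (CommRingCat.of R))} (f : X ⟶ Y)
variable (h : ∀ (A : Type u) [CommRing A] [Algebra R A],
  Function.Bijective fun y : QuadGrp.specOver R A ⟶ X => y ≫ f)

include h in
theorem bijective_of_isAffine (T : Over (Spec (CommRingCat.of R))) [IsAffine T.left] :
    Function.Bijective fun y : T ⟶ X => y ≫ f := by
  let ψ := Spec.preimage (T.left.isoSpec.inv ≫ T.hom)
  letI : Algebra R Γ(T.left, ⊤) := ψ.hom.toAlgebra
  let e : T ≅ QuadGrp.specOver R Γ(T.left, ⊤) := Over.isoMk T.left.isoSpec (by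
    show T.left.isoSpec.hom ≫ Spec.map (CommRingCat.ofHom ψ.hom) = T.hom
    rw [CommRingCat.ofHom_hom, Spec.map_preimage, Iso.hom_inv_id_assoc])
  constructor
  · intro y z hyz
    dsimp at hyz
    have := (h Γ(T.left, ⊤)).1 (a₁ := e.inv ≫ y) (a₂ := e.inv ≫ z) (by
      simp only [Category.assoc, hyz])
    exact (cancel_epi e.inv).1 this
  · intro z
    obtain ⟨y, hy⟩ := (h Γ(T.left, ⊤)).2 (e.inv ≫ z)
    refine ⟨e.hom ≫ y, ?_⟩
    dsimp at hy ⊢
    rw [Category.assoc, hy, Iso.hom_inv_id_assoc]

include h in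
theorem injective_comp (T : Over (Spec (CommRingCat.of R))) :
    Function.Injective fun y : T ⟶ X => y ≫ f := by
  intro y z hyz
  dsimp at hyz
  refine Over.OverMorphism.ext (Scheme.Cover.hom_ext T.left.affineCover _ _ fun i => ?_)
  have hw : T.left.affineCover.f i ≫ T.hom = T.left.affineCover.f i ≫ T.hom := rfl
  let U : Over (Spec (CommRingCat.of R)) := Over.mk (T.left.affineCover.f i ≫ T.hom)
  let ι : U ⟶ T := Over.homMk (T.left.affineCover.f i) hw
  haveI : IsAffine U.left := inferInstanceAs (IsAffine (T.left.affineCover.X i))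
  have := (bijective_of_isAffine f h U).1 (a₁ := ι ≫ y) (a₂ := ι ≫ z) (by
    simp only [Category.assoc, hyz])
  exact congrArg CommaMorphism.left this

include h in
theorem surjective_comp (T : Over (Spec (CommRingCat.of R))) :
    Function.Surjective fun y : T ⟶ X => y ≫ f := by
  intro z
  let 𝒰 := T.left.affineCover
  let U : 𝒰.I₀ → Over (Spec (CommRingCat.of R)) := fun i => Over.mk (𝒰.f i ≫ T.hom)
  let ι : ∀ i, U i ⟶ T := fun i => Over.homMk (𝒰.f i) rfl
  haveI : ∀ i, IsAffine (U i).left := fun i => inferInstanceAs (IsAffine (T.left.affineCover.X i))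
  choose y hy using fun i => (bijective_of_isAffine f h (U i)).2 (ι i ≫ z)
  dsimp at hy
  have hcompat : ∀ i j, pullback.fst (𝒰.f i) (𝒰.f j) ≫ (y i).left =
      pullback.snd (𝒰.f i) (𝒰.f j) ≫ (y j).left := by
    intro i j
    let V : Over (Spec (CommRingCat.of R)) := Over.mk (pullback.fst (𝒰.f i) (𝒰.f j) ≫ 𝒰.f i ≫ T.hom)
    let p : V ⟶ U i := Over.homMk (pullback.fst (𝒰.f i) (𝒰.f j)) rfl
    let q : V ⟶ U j := Over.homMk (pullback.snd (𝒰.f i) (𝒰.f j)) (by
      show pullback.snd (𝒰.f i) (𝒰.f j) ≫ 𝒰.f j ≫ T.hom = _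
      exact (pullback.condition_assoc (T.hom)).symm)
    have := injective_comp f h V (a₁ := p ≫ y i) (a₂ := q ≫ y j) (by
      simp only [Category.assoc, hy]
      rw [← Category.assoc, ← Category.assoc]
      congr 1
      exact Over.OverMorphism.ext pullback.condition)
    exact congrArg CommaMorphism.left this
  refine ⟨Over.homMk (Scheme.Cover.glueMorphisms 𝒰 (fun i => (y i).left) hcompat) ?_, ?_⟩
  · refine Scheme.Cover.hom_ext 𝒰 _ _ fun i => ?_
    rw [Scheme.Cover.ι_glueMorphisms_assoc]
    exact Over.w (y i)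
  · refine Over.OverMorphism.ext (Scheme.Cover.hom_ext 𝒰 _ _ fun i => ?_)
    show 𝒰.f i ≫ Scheme.Cover.glueMorphisms 𝒰 (fun i => (y i).left) hcompat ≫ f.left = _
    rw [Scheme.Cover.ι_glueMorphisms_assoc]
    exact congrArg CommaMorphism.left (hy i)

include h in
/-- A morphism which is bijective on points with values in algebras is an isomorphism. -/
theorem isIso_of_points : IsIso f := by
  obtain ⟨g, hg⟩ := surjective_comp f h Y (𝟙 Y)
  refine ⟨g, injective_comp f h X ?_, hg⟩
  dsimp at hg ⊢
  rw [Category.assoc, hg, Category.comp_id, Category.id_comp]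

omit h in
/-- Smoothness of a scheme isomorphic to the spectrum of a finitely presented algebra. -/
theorem smooth_iff_of_isIso {H : Type u} [CommRing H] [Algebra R H]
    [Algebra.FinitePresentation R H] {G : Over (Spec (CommRingCat.of R))}
    (u : QuadGrp.specOver R H ⟶ G) [IsIso u] :
    Smooth G.hom ↔ Algebra.FormallySmooth R H := by
  haveI : IsIso u.left := inferInstanceAs (IsIso ((Over.forget _).map u))
  have key : Smooth G.hom ↔ Smooth (QuadGrp.specOver R H).hom := by
    constructor
    · intro hs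
      rw [← Over.w u]
      infer_instance
    · intro hs
      rw [show G.hom = inv u.left ≫ (QuadGrp.specOver R H).hom by
        rw [IsIso.eq_inv_comp]; exact Over.w u]
      infer_instance
  rw [key]
  show Smooth (Spec.map (CommRingCat.ofHom (algebraMap R H))) ↔ _
  rw [HasRingHomProperty.Spec_iff (P := @Smooth.{u}), CommRingCat.hom_ofHom,
    RingHom.smooth_algebraMap]
  exact ⟨fun hs => hs.formallySmooth, fun hf => ⟨hf, inferInstance⟩⟩

end Groth.Agent.QuadSm
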