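import Groth.Agent.QuadCentre.HalfDisc
import Mathlib.Algebra.TrivSqZeroExt.Basic
import Mathlib.LinearAlgebra.Matrix.Adjugate
import Mathlib.LinearAlgebra.Matrix.NonsingularInverse
import Mathlib.LinearAlgebra.Matrix.Trace
import Mathlib.RingTheory.Ideal.Quotient.Operations
import Mathlib.Algebra.MvPolynomial.CommRing
import Mathlib.Tactic.LinearCombination

/-!
# Lifting isometries of coefficient tables along square zero ideals
-/

set_option autoImplicit false
noncomputable section

universe u

open Matrix
open Groth.Agent.QuadCentre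

namespace Groth.Agent.QuadSm

variable {n : ℕ} {S : Type u} [CommRing S]

/-- The symmetrised table of a square matrix. -/
def Lop : Matrix (Fin n) (Fin n) S →ₗ[S] (Sym2 (Fin n) → S) where
  toFun X := Sym2.lift ⟨fun i j => if i = j then X i i else X i j + X j i, fun i j => by
    by_cases h : i = j
    · subst h; rfl
    · dsimp only
      rw [if_neg h, if_neg (Ne.symm h), add_comm]⟩
  map_add' X Y := by
    funext v
    induction v using Sym2.inductionOn with
    | hf i j =>
      simp only [Pi.add_apply, Sym2.lift_mk, Matrix.add_apply]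
      split_ifs <;> abel
  map_smul' c X := by
    funext v
    induction v using Sym2.inductionOn with
    | hf i j =>
      simp only [Pi.smul_apply, Sym2.lift_mk, Matrix.smul_apply, RingHom.id_apply, smul_eq_mul]
      split_ifs <;> ring

theorem Lop_mk (X : Matrix (Fin n) (Fin n) S) (i j : Fin n) :
    Lop X (Sym2.mk i j) = if i = j then X i i else X i j + X j i := rfl

theorem Lop_transpose (X : Matrix (Fin n) (Fin n) S) : Lop Xᵀ = Lop X := by
  funext v
  induction v using Sym2.inductionOn with
  | hf i j =>
    simp only [Lop_mk, transpose_apply]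
    split_ifs
    · rfl
    · exact add_comm _ _

theorem Lop_triA (a : Sym2 (Fin n) → S) : Lop (triA a) = a := by
  funext v
  induction v using Sym2.inductionOn with
  | hf i j =>
    simp only [Lop_mk, triA, of_apply]
    rcases lt_trichotomy i j with h | rfl | h
    · simp [h.ne, h.ne', h, h.not_gt]
    · simp
    · simp [h.ne, h.ne', h, h.not_gt, Sym2.eq_swap]

theorem Lop_polA (a : Sym2 (Fin n) → S) : Lop (polA a) = (2 : S) • a := by
  rw [← triA_add_transpose, map_add, Lop_transpose, Lop_triA, two_smul]

theorem polA_add (a b : Sym2 (Fin n) → S) : polA (a + b) = polA a + polA b := by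
  ext i j
  simp only [polA, Matrix.add_apply, of_apply, Pi.add_apply]
  split_ifs <;> ring

theorem triA_add (a b : Sym2 (Fin n) → S) : triA (a + b) = triA a + triA b := by
  ext i j
  simp only [triA, Matrix.add_apply, of_apply, Pi.add_apply]
  split_ifs <;> simp

/-! ### Determinant expansions -/

theorem det_updateRow_eq_sum (P : Matrix (Fin n) (Fin n) S) (i : Fin n) (b : Fin n → S) :
    (P.updateRow i b).det = ∑ j, b j * P.adjugate j i := by
  rw [Matrix.det_eq_sum_mul_adjugate_row (P.updateRow i b) i]
  refine Finset.sum_congr rfl fun j _ => ?_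
  rw [updateRow_self, adjugate_apply, adjugate_apply, updateRow_idem]

theorem det_add_of_sq_zero (P X : Matrix (Fin n) (Fin n) S)
    (hX : ∀ a b c d, X a b * X c d = 0) :
    (P + X).det = P.det + (P.adjugate * X).trace := by
  classical
  let part : Finset (Fin n) → Matrix (Fin n) (Fin n) S := fun t =>
    Matrix.of fun i j => if i ∈ t then P i j + X i j else P i j
  have hterm : ∀ (t : Finset (Fin n)) i j,
      X i j * (part t).adjugate j i = X i j * P.adjugate j i := by
    intro t i j
    let J : Ideal S := Ideal.span (Set.range fun p : Fin n × Fin n => X p.1 p.2)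
    have hJ : ∀ z ∈ J, X i j * z = 0 := by
      intro z hz
      induction hz using Submodule.span_induction with
      | mem y hy => obtain ⟨p, rfl⟩ := hy; exact hX _ _ _ _
      | zero => exact mul_zero _
      | add y w _ _ hy hw => rw [mul_add, hy, hw, add_zero]
      | smul c y _ hy => rw [smul_eq_mul, mul_left_comm, hy, mul_zero]
    have hmk : (Ideal.Quotient.mk J).mapMatrix (part t) = (Ideal.Quotient.mk J).mapMatrix P := by
      ext a b
      simp only [RingHom.mapMatrix_apply, Matrix.map_apply, part, of_apply]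
      split_ifs with h
      · rw [map_add, Ideal.Quotient.eq_zero_iff_mem.2
          (show X a b ∈ J from Ideal.subset_span ⟨(a, b), rfl⟩), add_zero]
      · rfl
    have he := congrArg Matrix.adjugate hmk
    rw [← RingHom.map_adjugate, ← RingHom.map_adjugate] at he
    have he' := congrFun (congrFun he j) i
    simp only [RingHom.mapMatrix_apply, Matrix.map_apply, Ideal.Quotient.eq] at he'
    have := hJ _ he'
    rwa [mul_sub, sub_eq_zero] at this
  have main : ∀ t : Finset (Fin n),
      (part t).det = P.det + ∑ i ∈ t, ∑ j, X i j * P.adjugate j i := by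
    intro t
    induction t using Finset.induction_on with
    | empty =>
      rw [Finset.sum_empty, add_zero]
      congr 1
    | @insert i t hi ih =>
      have h1 : part (insert i t) = (part t).updateRow i (part t i + X i) := by
        ext a b
        by_cases ha : a = i
        · subst ha
          simp [part, hi]
        · simp [part, ha, updateRow_ne]
      rw [h1, det_updateRow_add, updateRow_eq_self, ih, Finset.sum_insert hi, det_updateRow_eq_sum,
        Finset.sum_congr rfl fun j _ => hterm t i j]
      ring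
  have h := main Finset.univ
  rw [show part Finset.univ = P + X by ext a b; simp [part]] at h
  rw [h, trace_mul_comm]
  simp only [Matrix.trace, Matrix.diag, Matrix.mul_apply]

/-! ### Identities for the half-discriminant -/

theorem adjugate_polA_symm (a : Sym2 (Fin n) → S) (k l : Fin n) :
    (polA a).adjugate k l = (polA a).adjugate l k := by
  conv_lhs => rw [← transpose_apply (polA a).adjugate l k, adjugate_transpose, polA_transpose]

theorem trace_adj_polA (a e : Sym2 (Fin n) → S) :
    ((polA a).adjugate * polA e).trace = 2 * ((polA a).adjugate * triA e).trace := by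
  conv_lhs => rw [← triA_add_transpose e, Matrix.mul_add, trace_add]
  rw [two_mul]
  congr 1
  rw [← trace_transpose_mul]
  rw [transpose_transpose, trace_mul_comm, adjugate_transpose, polA_transpose, trace_mul_comm (triA e)]

theorem nat_mul_hdA (hn : Odd n) (a : Sym2 (Fin n) → S) :
    (n : S) * hdA a = ((polA a).adjugate * triA a).trace := by
  let A : Sym2 (Fin n) → MvPolynomial (Sym2 (Fin n)) ℤ := fun v => MvPolynomial.X v
  have huniv : (n : MvPolynomial (Sym2 (Fin n)) ℤ) * hdA A =
      ((polA A).adjugate * triA A).trace := by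
    apply mul_left_cancel₀ (two_ne_zero (α := MvPolynomial (Sym2 (Fin n)) ℤ))
    rw [← trace_adj_polA, adjugate_mul, trace_smul, trace_one, Fintype.card_fin, smul_eq_mul,
      ← two_mul_hdA hn]
    ring
  let φ : MvPolynomial (Sym2 (Fin n)) ℤ →+* S := MvPolynomial.eval₂Hom (Int.castRingHom S) a
  have hA : φ ∘ A = a := by funext v; simp [φ, A]
  have := congrArg φ huniv
  rw [map_mul, map_natCast, hdA_map, hA] at this
  refine this.trans ((AddMonoidHom.map_trace φ.toAddMonoidHom _).trans ?_)
  congr 1
  change ((polA A).adjugate * triA A).map φ = _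
  rw [Matrix.map_mul, triA_map, hA, ← RingHom.mapMatrix_apply, RingHom.map_adjugate,
    RingHom.mapMatrix_apply, polA_map, hA]

theorem hdA_add_of_sq_zero (hn : Odd n) (a e : Sym2 (Fin n) → S) (he : ∀ v w, e v * e w = 0) :
    hdA (a + e) = hdA a + ((polA a).adjugate * triA e).trace := by
  let U := MvPolynomial (Sym2 (Fin n)) ℤ
  let T := TrivSqZeroExt U (Sym2 (Fin n) → U)
  let A : Sym2 (Fin n) → T := fun v => TrivSqZeroExt.inl (MvPolynomial.X v)
  let E : Sym2 (Fin n) → T := fun v => TrivSqZeroExt.inr (Pi.single v 1)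
  have hE : ∀ v w, E v * E w = 0 := fun v w => TrivSqZeroExt.inr_mul_inr _ _ _
  have hcancel : ∀ x y : T, 2 * x = 2 * y → x = y := fun x y h => by
    rw [two_mul, two_mul] at h
    refine TrivSqZeroExt.ext ?_ (funext fun v => ?_)
    · exact mul_left_cancel₀ (two_ne_zero (α := U)) (by
        have := congrArg TrivSqZeroExt.fst h
        rw [TrivSqZeroExt.fst_add, TrivSqZeroExt.fst_add] at this
        rwa [two_mul, two_mul])
    · exact mul_left_cancel₀ (two_ne_zero (α := U)) (by
        have := congrFun (congrArg TrivSqZeroExt.snd h) v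
        rw [TrivSqZeroExt.snd_add, TrivSqZeroExt.snd_add, Pi.add_apply, Pi.add_apply] at this
        rwa [two_mul, two_mul])
  have huniv : hdA (A + E) = hdA A + ((polA A).adjugate * triA E).trace := by
    apply hcancel
    rw [mul_add, ← trace_adj_polA, two_mul_hdA hn, two_mul_hdA hn, polA_add]
    refine det_add_of_sq_zero _ _ fun p q r s => ?_
    simp only [polA, of_apply]
    split_ifs <;> simp [mul_mul_mul_comm, mul_assoc, mul_left_comm _ (2 : T), hE]
  letI : Algebra U S := (MvPolynomial.eval₂Hom (Int.castRingHom S) a).toAlgebra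
  let g : (Sym2 (Fin n) → U) →ₗ[U] S :=
    ∑ v, ((LinearMap.toSpanSingleton U S (e v)).comp (LinearMap.proj v))
  have hg : ∀ x y, g x * g y = 0 := fun x y => by
    simp only [g, LinearMap.sum_apply, LinearMap.comp_apply, LinearMap.proj_apply,
      LinearMap.toSpanSingleton_apply, Algebra.smul_def, Finset.sum_mul, Finset.mul_sum]
    refine Finset.sum_eq_zero fun v _ => Finset.sum_eq_zero fun w _ => ?_
    rw [mul_mul_mul_comm, he, mul_zero]
  let φ : T →+* S := (TrivSqZeroExt.liftEquivOfComm ⟨g, hg⟩ : T →ₐ[U] S).toRingHom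
  have hA : φ ∘ A = a := by
    funext v
    show (TrivSqZeroExt.liftEquivOfComm ⟨g, hg⟩ : T →ₐ[U] S) (algebraMap U T (MvPolynomial.X v)) = a v
    rw [AlgHom.commutes, RingHom.algebraMap_toAlgebra, MvPolynomial.eval₂Hom_X']
  have hEm : φ ∘ E = e := by
    funext v
    show (TrivSqZeroExt.liftEquivOfComm ⟨g, hg⟩ : T →ₐ[U] S) (TrivSqZeroExt.inr (Pi.single v 1)) = e v
    show (Algebra.ofId U S) 0 + g (Pi.single v 1) = e v
    rw [map_zero, zero_add]
    simp [g, Pi.single_apply]
  have hAE : φ ∘ (A + E) = a + e := by
    funext v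
    rw [← hA, ← hEm]
    simp
  have := congrArg φ huniv
  rw [map_add, hdA_map, hdA_map, hAE, hA] at this
  refine this.trans (congrArg (hdA a + ·) ((AddMonoidHom.map_trace φ.toAddMonoidHom _).trans ?_))
  congr 1
  change ((polA A).adjugate * triA E).map φ = _
  rw [Matrix.map_mul, triA_map, hEm, ← RingHom.mapMatrix_apply, RingHom.map_adjugate,
    RingHom.mapMatrix_apply, polA_map, hA]

theorem cofactor_column (a : Sym2 (Fin n) → S) (i k l : Fin n) :
    ∃ w : Fin n → S, polA a *ᵥ w =
      Pi.single i ((polA a).adjugate k l) - Pi.single k ((polA a).adjugate i l) := by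
  set P := polA a
  by_cases hik : i = k
  · subst hik
    exact ⟨0, by simp⟩
  refine ⟨fun m => (P.updateRow k (Pi.single l 1)).adjugate m i, funext fun p => ?_⟩
  rw [show (P *ᵥ fun m => (P.updateRow k (Pi.single l 1)).adjugate m i) p =
      ((P.updateRow k (Pi.single l 1)).updateRow i (P p)).det from (det_updateRow_eq_sum _ _ _).symm]
  have hC : ∀ x y, P.adjugate x y = P.adjugate y x := adjugate_polA_symm a
  by_cases hpi : p = i
  · subst hpi
    rw [updateRow_comm _ (Ne.symm hik), updateRow_eq_self, ← adjugate_apply, hC]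
    simp [hik]
  by_cases hpk : p = k
  · subst hpk
    have hsw : ((P.updateRow p (Pi.single l 1)).updateRow i (P p)).submatrix (Equiv.swap i p) id =
        P.updateRow i (Pi.single l 1) := by
      ext x y
      simp only [submatrix_apply, id_eq]
      rcases eq_or_ne x i with rfl | hxi
      · rw [Equiv.swap_apply_left, updateRow_ne (Ne.symm hik), updateRow_self, updateRow_self]
      · rcases eq_or_ne x p with rfl | hxp
        · rw [Equiv.swap_apply_right, updateRow_self, updateRow_ne hxi]
        · rw [Equiv.swap_apply_of_ne_of_ne hxi hxp, updateRow_ne hxi, updateRow_ne hxp,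
            updateRow_ne hxi]
    have hd := Matrix.det_permute (Equiv.swap i p)
      ((P.updateRow p (Pi.single l 1)).updateRow i (P p))
    rw [hsw, Equiv.Perm.sign_swap hik, ← adjugate_apply, hC] at hd
    rw [Pi.sub_apply, Pi.single_eq_of_ne hpi, Pi.single_eq_same, zero_sub]
    rw [hd]
    simp
  · rw [Pi.sub_apply, Pi.single_eq_of_ne hpi, Pi.single_eq_of_ne hpk, sub_zero]
    refine det_zero_of_row_eq (Ne.symm hpi) ?_
    rw [updateRow_self, updateRow_ne hpi, updateRow_ne hpk]

theorem exists_lop_exchange (a : Sym2 (Fin n) → S) (i j k l : Fin n) :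
    ∃ Z, Lop (polA a * Z) = (polA a).adjugate k l • Lop (Matrix.single i j (1 : S)) -
      (polA a).adjugate i j • Lop (Matrix.single k l (1 : S)) := by
  obtain ⟨w, hw⟩ := cofactor_column a i k l
  obtain ⟨w', hw'⟩ := cofactor_column a j l i
  refine ⟨Matrix.of (fun m q => if q = j then w m else 0) +
    Matrix.of (fun m q => if q = k then w' m else 0), ?_⟩
  have hcol : ∀ (v : Fin n → S) (c : Fin n),
      polA a * Matrix.of (fun m q => if q = c then v m else 0) =
        Matrix.of (fun p q => if q = c then (polA a *ᵥ v) p else 0) := fun v c => by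
    ext p q
    by_cases h : q = c <;> simp [Matrix.mul_apply, Matrix.mulVec, dotProduct, h]
  have hsingle : ∀ (x y c : Fin n) (α β : S),
      Matrix.of (fun p q => if q = c then (Pi.single x α - Pi.single y β : Fin n → S) p else 0) =
        α • Matrix.single x c (1 : S) - β • Matrix.single y c (1 : S) := fun x y c α β => by
    ext p q
    by_cases h : q = c
    · subst h
      simp [Matrix.single, Pi.single_apply, eq_comm]
    · simp [Matrix.single, h, Ne.symm h]
  rw [Matrix.mul_add, hcol, hcol, hw, hw', hsingle, hsingle]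
  simp only [map_add, map_sub, map_smul]
  rw [← Lop_transpose (Matrix.single j k (1 : S)), ← Lop_transpose (Matrix.single l k (1 : S)),
    transpose_single, transpose_single, adjugate_polA_symm a l i, adjugate_polA_symm a j i]
  abel

/-! ### Lifting -/

/-- A table is the symmetrised product of the polar matrix with a matrix in the ideal. -/
def InImage (I : Ideal S) (a : Sym2 (Fin n) → S) : Submodule S (Sym2 (Fin n) → S) where
  carrier := {v | ∃ Z : Matrix (Fin n) (Fin n) S, (∀ i j, Z i j ∈ I) ∧ Lop (polA a * Z) = v}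
  add_mem' := by
    rintro _ _ ⟨Z, hZ, rfl⟩ ⟨Z', hZ', rfl⟩
    exact ⟨Z + Z', fun i j => add_mem (hZ i j) (hZ' i j), by rw [Matrix.mul_add, map_add]⟩
  zero_mem' := ⟨0, fun i j => zero_mem _, by simp⟩
  smul_mem' := by
    rintro c _ ⟨Z, hZ, rfl⟩
    exact ⟨c • Z, fun i j => Ideal.mul_mem_left _ _ (hZ i j), by rw [Matrix.mul_smul, map_smul]⟩

theorem triA_mem {I : Ideal S} {E : Sym2 (Fin n) → S} (hE : ∀ v, E v ∈ I) (i j : Fin n) :
    triA E i j ∈ I := by
  simp only [triA, of_apply]
  split_ifs <;> first | exact hE _ | exact I.zero_mem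

theorem polA_mem {I : Ideal S} {E : Sym2 (Fin n) → S} (hE : ∀ v, E v ∈ I) (i j : Fin n) :
    polA E i j ∈ I := by
  simp only [polA, of_apply]
  split_ifs <;> first | exact hE _ | exact I.mul_mem_left _ (hE _)

/-- The odd rank case: the obstruction is measured by the determinant. -/
theorem mem_inImage_odd {I : Ideal S} (a E : Sym2 (Fin n) → S) (hE : ∀ v, E v ∈ I) (hn : Odd n)
    (hhd : IsUnit (hdA a)) (δ : S) (hδ : δ ∈ I)
    (hE2 : ((polA a).adjugate * triA E).trace = 2 * δ * hdA a) : E ∈ InImage I a := by
  have hkey : ((polA a).adjugate * triA a).trace • E - ((polA a).adjugate * triA E).trace • a ∈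
      InImage I a := by
    have e : ∀ x y : Sym2 (Fin n) → S, ((polA a).adjugate * triA x).trace • y =
        ∑ i, ∑ j, ∑ k, ∑ l, (triA x k l * triA y i j) •
          ((polA a).adjugate k l • Lop (Matrix.single i j (1 : S))) := fun x y => by
      conv_lhs => rw [← Lop_triA y, matrix_eq_sum_single (triA y)]
      rw [trace_mul_comm]
      simp only [Matrix.trace, Matrix.diag, Matrix.mul_apply, Finset.sum_smul, map_sum,
        Finset.smul_sum, adjugate_polA_symm a]
      refine Finset.sum_congr rfl fun i _ => Finset.sum_congr rfl fun j _ =>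
        Finset.sum_congr rfl fun k _ => Finset.sum_congr rfl fun l _ => ?_
      rw [show Matrix.single i j (triA y i j) = triA y i j • Matrix.single i j (1 : S) by
        rw [Matrix.smul_single, smul_eq_mul, mul_one], map_smul, smul_smul, smul_smul]
      congr 1
      rw [adjugate_polA_symm a k l]
      ring
    have hswap : ∀ f : Fin n → Fin n → Fin n → Fin n → (Sym2 (Fin n) → S),
        ∑ p, ∑ q, ∑ r, ∑ s, f p q r s = ∑ r, ∑ s, ∑ p, ∑ q, f p q r s := fun f =>
      ((Finset.sum_congr rfl fun p _ => Finset.sum_comm).trans Finset.sum_comm).trans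
        (Finset.sum_congr rfl fun r _ =>
          (Finset.sum_congr rfl fun p _ => Finset.sum_comm).trans Finset.sum_comm)
    rw [e a E, e E a, hswap fun p q r s =>
      (triA E r s * triA a p q) • ((polA a).adjugate r s • Lop (Matrix.single p q (1 : S)))]
    simp only [← Finset.sum_sub_distrib]
    refine Submodule.sum_mem _ fun i _ => Submodule.sum_mem _ fun j _ =>
      Submodule.sum_mem _ fun k _ => Submodule.sum_mem _ fun l _ => ?_
    rw [mul_comm (triA E i j), ← smul_sub]
    obtain ⟨Z, hZ⟩ := exists_lop_exchange a i j k l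
    refine ⟨(triA a k l * triA E i j) • Z, fun p q =>
      I.mul_mem_right _ (I.mul_mem_left _ (triA_mem hE i j)), ?_⟩
    rw [Matrix.mul_smul, map_smul, hZ]
  have h2 : ((polA a).adjugate * triA E).trace • a ∈ InImage I a := by
    refine ⟨(δ * hdA a) • (1 : Matrix (Fin n) (Fin n) S), fun p q => ?_, ?_⟩
    · rw [Matrix.smul_apply, smul_eq_mul]
      exact I.mul_mem_right _ (I.mul_mem_right _ hδ)
    · rw [Matrix.mul_smul, mul_one, map_smul, Lop_polA, smul_smul, hE2]
      congr 1
      ring
  have h3 : ((polA a).adjugate * triA a).trace • E ∈ InImage I a := by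
    have := add_mem hkey h2
    rwa [sub_add_cancel] at this
  obtain ⟨m, hm⟩ := id hn
  have h4 : ((2 * m : ℕ) : S) • hdA a • E ∈ InImage I a := by
    refine ⟨(m : S) • ((polA a).adjugate * triA E), fun p q => ?_, ?_⟩
    · rw [Matrix.smul_apply, smul_eq_mul, Matrix.mul_apply]
      exact I.mul_mem_left _ (I.sum_mem fun r _ => I.mul_mem_left _ (triA_mem hE r q))
    · rw [Matrix.mul_smul, ← Matrix.mul_assoc, mul_adjugate, smul_mul, one_mul, map_smul, map_smul,
        Lop_triA, ← two_mul_hdA hn, smul_smul, smul_smul]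
      congr 1
      push_cast
      ring
  have h5 : hdA a • E ∈ InImage I a := by
    have := sub_mem h3 h4
    rw [← nat_mul_hdA hn, ← smul_assoc, ← sub_smul, smul_eq_mul] at this
    convert this using 2
    have hc : ((n : ℕ) : S) = 2 * (m : S) + 1 := by exact_mod_cast congrArg (Nat.cast (R := S)) hm
    rw [hc]
    push_cast
    ring
  have := (InImage I a).smul_mem (↑hhd.unit⁻¹ : S) h5
  rwa [smul_smul, IsUnit.val_inv_mul, one_smul] at this

/-- The regular case. -/
theorem mem_inImage_regular {I : Ideal S} (a E : Sym2 (Fin n) → S) (hE : ∀ v, E v ∈ I)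
    (hP : IsUnit (polA a).det) : E ∈ InImage I a := by
  refine ⟨(polA a)⁻¹ * triA E, fun p q => ?_, ?_⟩
  · rw [Matrix.mul_apply]
    exact I.sum_mem fun r _ => I.mul_mem_left _ (triA_mem hE r q)
  · rw [← Matrix.mul_assoc, mul_nonsing_inv _ hP, one_mul, Lop_triA]

theorem transA_step {I : Ideal S} (hI : ∀ x ∈ I, ∀ y ∈ I, x * y = 0) (a E : Sym2 (Fin n) → S)
    (hE : ∀ v, E v ∈ I) (G K : Matrix (Fin n) (Fin n) S) (hK : ∀ i j, K i j ∈ I)
    (hG : transA a G = a + E) : transA a (G * (1 + K)) = a + E + Lop (polA a * K) := by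
  have hexp : ∀ X : Matrix (Fin n) (Fin n) S, (G * (1 + K))ᵀ * X * (G * (1 + K)) =
      Gᵀ * X * G + (Kᵀ * (Gᵀ * X * G) + Gᵀ * X * G * K) := fun X => by
    have hz : Kᵀ * (Gᵀ * X * G) * K = 0 := by
      ext p q
      rw [Matrix.mul_apply, Matrix.zero_apply]
      refine Finset.sum_eq_zero fun r _ => hI _ ?_ _ (hK r q)
      rw [Matrix.mul_apply]
      exact I.sum_mem fun s _ => I.mul_mem_right _ (hK s p)
    rw [transpose_mul, transpose_add, transpose_one]
    simp only [Matrix.add_mul, Matrix.mul_add, one_mul, mul_one, Matrix.mul_assoc] at hz ⊢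
    rw [hz]
    abel
  have hY : Gᵀ * polA a * G = polA a + polA E := by rw [← polA_transA, hG, polA_add]
  have hEK : polA E * K = 0 := by
    ext p q
    rw [Matrix.mul_apply, Matrix.zero_apply]
    exact Finset.sum_eq_zero fun r _ => hI _ (polA_mem hE p r) _ (hK r q)
  have hKE : Kᵀ * polA E = 0 := by
    rw [← polA_transpose E, ← transpose_mul, hEK, transpose_zero]
  funext v
  induction v using Sym2.inductionOn with
  | hf i j =>
    have hG' := congrFun hG (Sym2.mk i j)
    rw [transA_mk] at hG' ⊢
    simp only [Pi.add_apply, Lop_mk] at hG' ⊢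
    rw [hexp, hexp]
    split_ifs at hG' ⊢ with h
    · subst h
      have hsum : (Kᵀ * (Gᵀ * triA a * G)) i i = ((Gᵀ * (triA a)ᵀ * G) * K) i i := by
        rw [← transpose_apply (Kᵀ * (Gᵀ * triA a * G)), transpose_mul, transpose_transpose,
          transpose_mul, transpose_mul, transpose_transpose, ← Matrix.mul_assoc Gᵀ]
      rw [Matrix.add_apply, Matrix.add_apply, hsum, hG', ← Matrix.add_apply, ← Matrix.add_mul,
        ← Matrix.add_mul, ← Matrix.mul_add, add_comm (triA a)ᵀ, triA_add_transpose, hY,
        Matrix.add_mul, hEK, add_zero]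
    · have hPK : (Kᵀ * polA a) i j = (polA a * K) j i := by
        rw [← transpose_apply (polA a * K), transpose_mul, polA_transpose]
      rw [Matrix.add_apply, hG', hY, Matrix.add_mul, Matrix.mul_add, hEK, hKE, add_zero, add_zero,
        Matrix.add_apply, hPK, add_comm ((polA a * K) j i)]

theorem exists_lift {I : Ideal S} (hI : ∀ x ∈ I, ∀ y ∈ I, x * y = 0) (a : Sym2 (Fin n) → S)
    (G : Matrix (Fin n) (Fin n) S) (hE : transA a G - a ∈ InImage I a)
    (hmem : ∀ v, (transA a G - a) v ∈ I) :
    ∃ H : Matrix (Fin n) (Fin n) S, transA a H = a ∧ ∀ i j, H i j - G i j ∈ I := by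
  obtain ⟨Z, hZ, hZE⟩ := hE
  refine ⟨G * (1 + -Z), ?_, fun i j => ?_⟩
  · rw [transA_step hI a _ hmem G (-Z) (fun i j => I.neg_mem (hZ i j)) (add_sub_cancel a _).symm,
      Matrix.mul_neg, map_neg, hZE]
    abel
  · rw [Matrix.mul_add, mul_one, Matrix.add_apply, add_sub_cancel_left, Matrix.mul_apply]
    exact I.sum_mem fun r _ => I.mul_mem_left _ (I.neg_mem (hZ r j))

end Groth.Agent.QuadSm
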