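import Mathlib.LinearAlgebra.Matrix.SchurComplement
import Mathlib.RingTheory.Polynomial.UniqueFactorization
import Mathlib.RingTheory.IntegralClosure.IntegrallyClosed
import Mathlib.RingTheory.Polynomial.RationalRoot
import Mathlib.RingTheory.Localization.FractionRing
import Mathlib.Algebra.MvPolynomial.CommRing
import Mathlib.Algebra.Field.IsField
import Mathlib.RingTheory.Int.Basic
import Mathlib.Algebra.CharP.Algebra
import Mathlib.Tactic.LinearCombination

/-!
# Alternating matrices: the determinant is a square, transformations preserving one have determinant one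
-/

set_option autoImplicit false
noncomputable section

universe u

open Matrix

namespace Groth.Agent.QuadSm

/-- Alternating matrices. -/
def IsAlt {ι S : Type*} [CommRing S] (P : Matrix ι ι S) : Prop := Pᵀ = -P ∧ ∀ i, P i i = 0

theorem IsAlt.apply_swap {ι S : Type*} [CommRing S] {P : Matrix ι ι S} (h : IsAlt P) (i j : ι) :
    P j i = -P i j := by
  have := congrFun (congrFun h.1 i) j
  simpa using this

theorem IsAlt.submatrix {ι κ S : Type*} [CommRing S] {P : Matrix ι ι S} (h : IsAlt P) (e : κ → ι) :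
    IsAlt (P.submatrix e e) :=
  ⟨Matrix.ext fun i j => h.apply_swap (e i) (e j), fun i => h.2 _⟩

theorem isAlt_iff {ι S : Type*} [CommRing S] {P : Matrix ι ι S} :
    IsAlt P ↔ (∀ i j, P j i = -P i j) ∧ ∀ i, P i i = 0 :=
  ⟨fun h => ⟨h.apply_swap, h.2⟩, fun h => ⟨Matrix.ext fun i j => h.1 i j, h.2⟩⟩

theorem isSquare_det_field {K : Type*} [Field K] :
    ∀ (n : ℕ) (P : Matrix (Fin n) (Fin n) K), IsAlt P → IsSquare P.det := by
  intro n
  induction n using Nat.strong_induction_on with
  | h n ih =>
  intro P hP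
  obtain rfl | rfl | ⟨m, rfl⟩ : n = 0 ∨ n = 1 ∨ ∃ m, n = 2 + m := by
    rcases n with _ | _ | m
    · exact Or.inl rfl
    · exact Or.inr (Or.inl rfl)
    · exact Or.inr (Or.inr ⟨m, by omega⟩)
  · rw [det_fin_zero]; exact IsSquare.one
  · rw [det_unique, show (default : Fin 1) = 0 from rfl, hP.2]; exact IsSquare.zero
  · let i0 : Fin (2 + m) := ⟨0, by omega⟩
    let i1 : Fin (2 + m) := ⟨1, by omega⟩
    by_cases hrow : ∀ j, P i0 j = 0
    · rw [det_eq_zero_of_row_eq_zero i0 hrow]; exact IsSquare.zero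
    push Not at hrow
    obtain ⟨j, hj⟩ := hrow
    have hj0 : j ≠ i0 := fun h => hj (h ▸ hP.2 i0)
    let σ : Equiv.Perm (Fin (2 + m)) := Equiv.swap i1 j
    let e : Fin 2 ⊕ Fin m ≃ Fin (2 + m) := finSumFinEquiv.trans σ
    let P' := P.submatrix e e
    have hP' : IsAlt P' := hP.submatrix e
    rw [← det_submatrix_equiv_self e]
    let a := P' (Sum.inl 0) (Sum.inl 1)
    have ha : a ≠ 0 := by
      have h0 : e (Sum.inl 0) = i0 := by
        show σ i0 = i0
        refine Equiv.swap_apply_of_ne_of_ne ?_ (Ne.symm hj0)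
        simp [i0, i1]
      have h1 : e (Sum.inl 1) = j := by
        show σ i1 = j
        exact Equiv.swap_apply_left _ _
      simp only [a, P', submatrix_apply, h0, h1]
      exact hj
    have hdetA : (toBlocks₁₁ P').det = a * a := by
      rw [det_fin_two]
      simp only [toBlocks₁₁, of_apply]
      rw [hP'.2, hP'.apply_swap (Sum.inl 0) (Sum.inl 1)]
      ring
    haveI : Invertible (toBlocks₁₁ P') :=
      invertibleOfIsUnitDet _ (hdetA ▸ isUnit_iff_ne_zero.2 (mul_ne_zero ha ha))
    have key : (toBlocks₁₁ P')⁻¹ = !![0, -a⁻¹; a⁻¹, 0] := by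
      refine inv_eq_right_inv ?_
      ext p q
      fin_cases p <;> fin_cases q <;>
        simp [Matrix.mul_apply, Fin.sum_univ_two, toBlocks₁₁, hP'.2,
          hP'.apply_swap (Sum.inl 0) (Sum.inl 1), a, mul_inv_cancel₀ ha] <;>
        exact mul_inv_cancel₀ ha
    rw [show P.submatrix e e = P' from rfl, ← fromBlocks_toBlocks P', det_fromBlocks₁₁, hdetA]
    refine IsSquare.mul ⟨a, rfl⟩ (ih m (by omega) _ ?_)
    rw [invOf_eq_nonsing_inv, key, isAlt_iff]
    refine ⟨fun p q => ?_, fun p => ?_⟩ <;>
      simp only [Matrix.sub_apply, Matrix.mul_apply, Fin.sum_univ_two, toBlocks₂₂, toBlocks₂₁,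
        toBlocks₁₂, of_apply, Fin.isValue, Matrix.cons_val_zero, Matrix.cons_val_one,
        Matrix.cons_val', Matrix.cons_val_fin_one]
    · rw [hP'.apply_swap (Sum.inr p) (Sum.inr q), hP'.apply_swap (Sum.inl 0) (Sum.inr p),
        hP'.apply_swap (Sum.inl 1) (Sum.inr p), hP'.apply_swap (Sum.inl 0) (Sum.inr q),
        hP'.apply_swap (Sum.inl 1) (Sum.inr q)]
      ring
    · rw [hP'.2, hP'.apply_swap (Sum.inl 0) (Sum.inr p), hP'.apply_swap (Sum.inl 1) (Sum.inr p)]
      ring

variable {n : ℕ}

/-- The generic alternating matrix. -/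
def univAlt (n : ℕ) : Matrix (Fin n) (Fin n) (MvPolynomial (Fin n × Fin n) ℤ) :=
  Matrix.of fun i j =>
    if i < j then MvPolynomial.X (i, j) else if j < i then -MvPolynomial.X (j, i) else 0

theorem isAlt_univAlt : IsAlt (univAlt n) := by
  refine isAlt_iff.2 ⟨fun i j => ?_, fun i => by simp [univAlt]⟩
  rcases lt_trichotomy i j with h | rfl | h
  · simp [univAlt, h, h.not_gt]
  · simp [univAlt]
  · simp [univAlt, h, h.not_gt]

theorem exists_pfUniv : ∃ p, (univAlt n).det = p * p := by
  let U := MvPolynomial (Fin n × Fin n) ℤ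
  let K := FractionRing U
  have h : IsAlt ((univAlt n).map (algebraMap U K)) :=
    ⟨by rw [← Matrix.transpose_map, isAlt_univAlt.1]; ext i j; simp, fun i => by simp [isAlt_univAlt.2]⟩
  obtain ⟨r, hr⟩ := isSquare_det_field n _ h
  rw [← RingHom.mapMatrix_apply, ← RingHom.map_det] at hr
  obtain ⟨p, hp⟩ := IsIntegrallyClosed.exists_algebraMap_eq_of_isIntegral_pow (R := U) (n := 2)
    (x := r) two_pos (by rw [pow_two, ← hr]; exact isIntegral_algebraMap)
  exact ⟨p, IsFractionRing.injective U K (by rw [map_mul, hp, ← hr])⟩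

/-- The generic Pfaffian, up to sign. -/
def pfUniv (n : ℕ) : MvPolynomial (Fin n × Fin n) ℤ := Classical.choose (exists_pfUniv (n := n))

/-- The Pfaffian, up to sign, of the alternating matrix with given entries above the diagonal. -/
def pfA {S : Type*} [CommRing S] (P : Matrix (Fin n) (Fin n) S) : S :=
  MvPolynomial.eval₂ (Int.castRingHom S) (fun p => P p.1 p.2) (pfUniv n)

theorem pfA_map {S T : Type*} [CommRing S] [CommRing T] (φ : S →+* T)
    (P : Matrix (Fin n) (Fin n) S) : φ (pfA P) = pfA (P.map φ) := by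
  rw [pfA, pfA, MvPolynomial.eval₂_comp_left φ,
    RingHom.ext_int (φ.comp (Int.castRingHom S)) (Int.castRingHom T)]
  rfl

theorem pfA_sq {S : Type*} [CommRing S] {P : Matrix (Fin n) (Fin n) S} (h : IsAlt P) :
    P.det = pfA P * pfA P := by
  let φ : MvPolynomial (Fin n × Fin n) ℤ →+* S :=
    MvPolynomial.eval₂Hom (Int.castRingHom S) fun p => P p.1 p.2
  have hP : (univAlt n).map φ = P := by
    ext i j
    rcases lt_trichotomy i j with h' | rfl | h'
    · simp [univAlt, φ, h']
    · simp [univAlt, φ, h.2]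
    · simp [univAlt, φ, h', h'.not_gt, h.apply_swap j i]
  have := congrArg φ (Classical.choose_spec (exists_pfUniv (n := n)))
  rw [RingHom.map_det, RingHom.mapMatrix_apply, hP, map_mul] at this
  exact this

theorem IsAlt.congr {S : Type*} [CommRing S] {P : Matrix (Fin n) (Fin n) S} (h : IsAlt P)
    (G : Matrix (Fin n) (Fin n) S) : IsAlt (Gᵀ * P * G) := by
  refine ⟨by rw [transpose_mul, transpose_mul, transpose_transpose, h.1]; simp [Matrix.mul_assoc],
    fun i => ?_⟩
  simp only [Matrix.mul_apply, transpose_apply, Finset.sum_mul]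
  rw [← Fintype.sum_prod_type' fun x y => G y i * P y x * G x i]
  refine Finset.sum_involution (fun p _ => (p.2, p.1)) (fun p _ => ?_) (fun p _ hne heq => ?_)
    (fun _ _ => Finset.mem_univ _) fun _ _ => rfl
  · simp only [h.apply_swap p.1 p.2]; ring
  · obtain ⟨p1, p2⟩ := p
    obtain rfl : p2 = p1 := (congrArg Prod.fst heq :)
    exact hne (by simp [h.2])

theorem pfA_congr {S : Type*} [CommRing S] {P : Matrix (Fin n) (Fin n) S} (h : IsAlt P)
    (G : Matrix (Fin n) (Fin n) S) : pfA (Gᵀ * P * G) = G.det * pfA P := by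
  let U := MvPolynomial ((Fin n × Fin n) ⊕ (Fin n × Fin n)) ℤ
  let ι : MvPolynomial (Fin n × Fin n) ℤ →+* U := (MvPolynomial.rename Sum.inl).toRingHom
  let PU : Matrix (Fin n) (Fin n) U := (univAlt n).map ι
  let GU : Matrix (Fin n) (Fin n) U := Matrix.of fun i j => MvPolynomial.X (Sum.inr (i, j))
  have hPU : IsAlt PU :=
    ⟨by rw [← Matrix.transpose_map, isAlt_univAlt.1]; ext i j; simp [PU], fun i => by simp [PU, isAlt_univAlt.2]⟩
  have hsq : pfA (GUᵀ * PU * GU) * pfA (GUᵀ * PU * GU) = (GU.det * pfA PU) * (GU.det * pfA PU) := by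
    rw [← pfA_sq (hPU.congr GU), det_mul, det_mul, det_transpose, pfA_sq hPU]
    ring
  have huniv : pfA (GUᵀ * PU * GU) = GU.det * pfA PU := by
    rcases mul_self_eq_mul_self_iff.1 hsq with h' | h'
    · exact h'
    let φ : U →+* MvPolynomial (Fin n × Fin n) ℤ :=
      MvPolynomial.eval₂Hom (Int.castRingHom _)
        (Sum.elim MvPolynomial.X fun p => if p.1 = p.2 then 1 else 0)
    have hX : ∀ x, φ (MvPolynomial.X x) =
        Sum.elim MvPolynomial.X (fun p => if p.1 = p.2 then 1 else 0) x := fun x =>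
      MvPolynomial.eval₂_X _ _ x
    have hφP : PU.map φ = univAlt n := by
      have : φ.comp ι = RingHom.id _ := MvPolynomial.ringHom_ext (fun r => by simp)
        fun p => by simp [hX, ι]
      rw [Matrix.map_map]
      exact Matrix.ext fun i j => RingHom.congr_fun this _
    have hφG : GU.map φ = 1 := by
      ext i j
      simp [GU, hX, Matrix.one_apply]
    have := congrArg φ h'
    rw [map_neg, map_mul, RingHom.map_det, RingHom.mapMatrix_apply, hφG, det_one, one_mul, pfA_map,
      pfA_map, Matrix.map_mul, Matrix.map_mul, Matrix.transpose_map, hφG, hφP, transpose_one,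
      one_mul, mul_one] at this
    have h0 : pfA (univAlt n) = 0 := by
      haveI hcz : CharZero (MvPolynomial (Fin n × Fin n) ℤ) := charZero_of_injective_algebraMap (MvPolynomial.C_injective _ ℤ)
      apply mul_left_cancel₀ (two_ne_zero (α := MvPolynomial (Fin n × Fin n) ℤ))
      linear_combination this
    have h1 : pfA PU = 0 := by rw [← pfA_map ι, h0, map_zero]
    rw [h', h1, mul_zero, neg_zero]
  let φ : U →+* S := MvPolynomial.eval₂Hom (Int.castRingHom S)
    (Sum.elim (fun p => P p.1 p.2) fun p => G p.1 p.2)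
  have hX : ∀ x, φ (MvPolynomial.X x) =
      Sum.elim (fun p => P p.1 p.2) (fun p => G p.1 p.2) x := fun x => MvPolynomial.eval₂_X _ _ x
  have hP : PU.map φ = P := by
    ext i j
    rcases lt_trichotomy i j with h' | rfl | h'
    · simp [PU, univAlt, ι, hX, h']
    · simp [PU, univAlt, ι, hX, h.2]
    · simp [PU, univAlt, ι, hX, h', h'.not_gt, h.apply_swap j i]
  have hG : GU.map φ = G := by ext i j; simp [GU, hX]
  have := congrArg φ huniv
  rwa [map_mul, RingHom.map_det, RingHom.mapMatrix_apply, hG, pfA_map, pfA_map, Matrix.map_mul,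
    Matrix.map_mul, Matrix.transpose_map, hP, hG] at this

/-- A transformation preserving an invertible alternating matrix has determinant one. -/
theorem det_eq_one_of_isAlt {S : Type*} [CommRing S] {P G : Matrix (Fin n) (Fin n) S} (h : IsAlt P)
    (hu : IsUnit P.det) (hG : Gᵀ * P * G = P) : G.det = 1 := by
  have hp : IsUnit (pfA P) := isUnit_of_mul_isUnit_left (pfA_sq h ▸ hu)
  have := pfA_congr h G
  rw [hG] at this
  exact hp.mul_right_cancel (by rw [one_mul, ← this])

end Groth.Agent.QuadSm
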