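import Groth.Agent.QuadSm.Main
import Groth.Agent.QuadSm.Pfaffian
import Groth.Agent.SmoothRed.Basic
import Mathlib.AlgebraicGeometry.Morphisms.Flat
import Mathlib.RingTheory.TensorProduct.Quotient
import Mathlib.RingTheory.Flat.TorsionFree

/-!
# Determinants of isometries in characteristic two and the naive special orthogonal group over the integers
-/

set_option autoImplicit false
noncomputable section

universe u v

open Matrix CategoryTheory AlgebraicGeometry
open scoped TensorProduct
open Groth.Agent.QuadCentre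

namespace Groth.Agent.QuadSm

variable {n : ℕ}

theorem isUnit_polA_coeffs {R : Type u} [CommRing R] {M : Type v} [AddCommGroup M] [Module R M]
    (b : Module.Basis (Fin n) R M) (Q : QuadraticForm R M) (hQ : QuadGrp.IsRegular Q) :
    IsUnit (polA (QuadGrp.coeffs b (LinearEquiv.refl R R) Q)).det := by
  choose d hd using fun j => hQ.2 (b.coord j)
  refine Matrix.isUnit_det_of_right_inverse (B := Matrix.of fun l j => b.repr (d j) l) ?_
  ext i j
  have h := LinearMap.congr_fun (hd j) (b i)
  rw [← b.sum_repr (d j)] at h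
  simp only [map_sum, map_smul, LinearMap.sum_apply, LinearMap.smul_apply,
    QuadraticMap.polarBilin_apply_apply, smul_eq_mul, Module.Basis.coord_apply,
    Module.Basis.repr_self, Finsupp.single_apply] at h
  rw [Matrix.mul_apply, Matrix.one_apply, ← h]
  refine Finset.sum_congr rfl fun l _ => ?_
  rw [of_apply, mul_comm, QuadraticMap.polar_comm]
  congr 1
  simp only [polA, of_apply, QuadGrp.coeffs_mk, LinearEquiv.refl_apply]
  split_ifs with e
  · subst e; simp [QuadraticMap.polar_self]
  · rfl

theorem isAlt_polA {S : Type*} [CommRing S] (h2 : (2 : S) = 0) (a : Sym2 (Fin n) → S) :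
    IsAlt (polA a) := by
  refine ⟨?_, fun i => by simp [polA, h2]⟩
  rw [polA_transpose]
  ext i j
  rw [Matrix.neg_apply, eq_neg_iff_add_eq_zero, ← two_mul, h2, zero_mul]

/-- In characteristic two, isometries of a form with perfect polar form have determinant one. -/
theorem det_eq_one_of_two {S : Type*} [CommRing S] (h2 : (2 : S) = 0) (a : Sym2 (Fin n) → S)
    (hu : IsUnit (polA a).det) (G : Matrix (Fin n) (Fin n) S) (hG : transA a G = a) : G.det = 1 :=
  det_eq_one_of_isAlt (isAlt_polA h2 a) hu (by rw [← polA_transA, hG])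

section Split

variable (m : ℕ)

/-- The table of the split form. -/
abbrev splitTable : Sym2 (Fin (2 * m)) → ℤ := table (QuadGrp.splitForm ℤ (2 * m))

theorem splitForm_apply (x : Fin (2 * m) → ℤ) :
    QuadGrp.splitForm ℤ (2 * m) x =
      ∑ i : Fin m, x ⟨2 * i, by omega⟩ * x ⟨2 * i + 1, by omega⟩ := by
  have h0 : 2 * m % 2 = 0 := Nat.mul_mod_right 2 m
  rw [QuadGrp.splitForm, dif_neg (by omega), add_zero]
  simp only [QuadraticMap.sum_apply, QuadraticMap.linMulLin_apply, LinearMap.proj_apply]
  refine Fintype.sum_equiv (finCongr (by omega)) _ _ fun i => ?_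
  simp [h0]

theorem splitTable_mk (i j : Fin (2 * m)) :
    splitTable m (Sym2.mk i j) =
      if i ≠ j ∧ (i : ℕ) / 2 = (j : ℕ) / 2 then 1 else 0 := by
  have hsum : ∀ (p q : Fin (2 * m)), (p : ℕ) % 2 = 0 → (q : ℕ) % 2 = 1 →
      (∑ r : Fin m, (Pi.single p 1 : Fin (2 * m) → ℤ) ⟨2 * r, by omega⟩ *
        (Pi.single q 1 : Fin (2 * m) → ℤ) ⟨2 * r + 1, by omega⟩) =
      if (p : ℕ) / 2 = (q : ℕ) / 2 then 1 else 0 := by
    intro p q hp hq
    rw [Finset.sum_eq_single (⟨(p : ℕ) / 2, by omega⟩ : Fin m)]
    · simp only [Pi.single_apply, Fin.ext_iff]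
      split_ifs <;> first | rfl | omega
    · intro r _ hr
      simp only [Pi.single_apply, Fin.ext_iff]
      rw [if_neg, zero_mul]
      simp [Fin.ext_iff] at hr
      omega
    · simp
  have hzero : ∀ (p q : Fin (2 * m)), ¬((p : ℕ) % 2 = 0 ∧ (q : ℕ) % 2 = 1) →
      (∑ r : Fin m, (Pi.single p 1 : Fin (2 * m) → ℤ) ⟨2 * r, by omega⟩ *
        (Pi.single q 1 : Fin (2 * m) → ℤ) ⟨2 * r + 1, by omega⟩) = 0 := by
    intro p q h
    refine Finset.sum_eq_zero fun r _ => ?_
    simp only [Pi.single_apply, Fin.ext_iff]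
    split_ifs <;> first | rfl | omega
  simp only [splitTable, table, QuadGrp.coeffs_mk]
  simp only [LinearEquiv.refl_apply, Pi.basisFun_apply, QuadraticMap.polar, splitForm_apply,
    Pi.add_apply, add_mul, mul_add, Finset.sum_add_distrib]
  rcases eq_or_ne i j with rfl | hij
  · rw [if_pos rfl, if_neg (fun h => h.1 rfl), hzero _ _ (by omega)]
  · rw [if_neg hij, hzero i i (by omega), hzero j j (by omega), zero_add, add_zero]
    rcases Nat.mod_two_eq_zero_or_one i with hi | hi <;>
      rcases Nat.mod_two_eq_zero_or_one j with hj | hj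
    · rw [hzero i j (by omega), hzero j i (by omega), if_neg]; · ring
      rintro ⟨-, h⟩; exact hij (Fin.ext (by omega))
    · rw [hsum i j hi hj, hzero j i (by omega)]
      simp [hij]
    · rw [hzero i j (by omega), hsum j i hj hi]
      simp [hij, eq_comm]
    · rw [hzero i j (by omega), hzero j i (by omega), if_neg]; · ring
      rintro ⟨-, h⟩; exact hij (Fin.ext (by omega))

theorem polA_split (i j : Fin (2 * m)) :
    polA (splitTable m) i j = if i ≠ j ∧ (i : ℕ) / 2 = (j : ℕ) / 2 then 1 else 0 := by
  simp only [polA, of_apply, splitTable_mk]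
  by_cases h : i = j
  · simp [h]
  · rw [if_neg h]

theorem isUnit_polA_split : IsUnit (polA (splitTable m)).det := by
  refine Matrix.isUnit_det_of_right_inverse (B := polA (splitTable m)) ?_
  ext i j
  let i' : Fin (2 * m) := ⟨if (i : ℕ) % 2 = 0 then i + 1 else i - 1, by split_ifs <;> omega⟩
  rw [Matrix.mul_apply, Finset.sum_eq_single i']
  · simp only [polA_split, Matrix.one_apply, ne_eq, Fin.ext_iff, i']
    split_ifs <;> first | rfl | omega
  · intro r _ hr
    simp only [polA_split, ne_eq, Fin.ext_iff, i'] at hr ⊢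
    rw [if_neg, zero_mul]
    split_ifs at hr <;> omega
  · simp

/-- The transposition of the first two coordinates. -/
def swapPerm (hm : 1 ≤ m) : Equiv.Perm (Fin (2 * m)) :=
  Equiv.swap ⟨0, by omega⟩ ⟨1, by omega⟩

theorem transA_perm {S : Type*} [CommRing S] (a : Sym2 (Fin n) → S) (σ : Equiv.Perm (Fin n))
    (h : ∀ i j, a (Sym2.mk (σ i) (σ j)) = a (Sym2.mk i j)) :
    transA a ((1 : Matrix (Fin n) (Fin n) S).submatrix id σ) = a := by
  funext v
  induction v using Sym2.inductionOn with
  | hf i j =>
    rw [transA_mk]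
    split_ifs with e
    · subst e
      simp only [Matrix.mul_apply, submatrix_apply, transpose_apply, Matrix.one_apply, id_eq, triA,
        of_apply, ite_mul, one_mul, zero_mul, mul_ite, mul_one, mul_zero, Finset.sum_ite_eq',
        Finset.mem_univ, if_true]
      rw [Finset.sum_eq_single (σ i) (fun r _ hr => by simp [hr]) (by simp)]
      simp [h]
    · simp only [Matrix.mul_apply, submatrix_apply, transpose_apply, Matrix.one_apply, id_eq, polA,
        of_apply, ite_mul, one_mul, zero_mul, mul_ite, mul_one, mul_zero, Finset.sum_ite_eq',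
        Finset.mem_univ, if_true]
      rw [Finset.sum_eq_single (σ i) (fun r _ hr => by split_ifs <;> simp [hr]) (by simp)]
      simp [h, e, σ.injective.eq_iff]

theorem good_swap (hm : 1 ≤ m) :
    Good (splitTable m) false ℤ ((1 : Matrix _ _ ℤ).submatrix id (swapPerm m hm)) := by
  have hd : ((1 : Matrix _ _ ℤ).submatrix id (swapPerm m hm)).det = -1 := by
    rw [Matrix.det_permute', swapPerm, Equiv.Perm.sign_swap (by simp [Fin.ext_iff])]
    simp
  refine ⟨?_, hd ▸ isUnit_one.neg, fun h => absurd h (by simp)⟩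
  rw [show algebraMap ℤ ℤ ∘ splitTable m = splitTable m from funext fun v => rfl]
  refine transA_perm _ _ fun i j => ?_
  have hval : ∀ k : Fin (2 * m), ((swapPerm m hm k : Fin (2 * m)) : ℕ) / 2 = (k : ℕ) / 2 := by
    intro k
    simp only [swapPerm, Equiv.swap_apply_def]
    split_ifs with h1 h2 <;> simp_all [Fin.ext_iff]
  simp only [splitTable_mk, hval, ne_eq, EmbeddingLike.apply_eq_iff_eq]

end Split

section Integral

variable {R : Type u} [CommRing R] [IsDomain R] (a : Sym2 (Fin n) → R)
  (ha : IsUnit (polA a).det)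

include ha in
omit [IsDomain R] in
theorem exists_det_eq {A : Type u} [CommRing A] [Algebra R A] {G : Matrix (Fin n) (Fin n) A}
    (hG : Good a false A G) : ∃ d : A, G.det = 1 - 2 * d := by
  have h2 : (2 : A ⧸ Ideal.span {(2 : A)}) = 0 := by
    rw [← map_ofNat (Ideal.Quotient.mk (Ideal.span {(2 : A)})) 2, Ideal.Quotient.eq_zero_iff_mem]
    exact Ideal.mem_span_singleton_self _
  have hg := hG.map a false (Ideal.Quotient.mkₐ R (Ideal.span {(2 : A)}))
  have hu : IsUnit (polA (algebraMap R (A ⧸ Ideal.span {(2 : A)}) ∘ a)).det := by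
    rw [← polA_map, ← RingHom.mapMatrix_apply, ← RingHom.map_det]
    exact ha.map _
  have hdet := det_eq_one_of_two h2 _ hu _ hg.1
  rw [← det_mk, ← map_one (Ideal.Quotient.mkₐ R (Ideal.span {(2 : A)}))] at hdet
  obtain ⟨c, hc⟩ := Ideal.mem_span_singleton'.1 (Ideal.Quotient.eq.1 hdet)
  exact ⟨-c, by linear_combination -hc⟩

include ha in
omit [IsDomain R] in
theorem exists_dickson : ∃ d : Coord a false, (genH a false).det = 1 - 2 * d :=
  exists_det_eq a ha (good_genH a false)

omit [IsDomain R] in
theorem good_quot {A : Type u} [CommRing A] [Algebra R A] (J : Ideal A)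
    {G : Matrix (Fin n) (Fin n) A} (hG : Good a false A G) (hJ : G.det - 1 ∈ J) :
    Good a true (A ⧸ J) (G.map (Ideal.Quotient.mkₐ R J)) := by
  have hg := hG.map a false (Ideal.Quotient.mkₐ R J)
  refine ⟨hg.1, hg.2.1, fun _ => ?_⟩
  rw [← det_mk, ← map_one (Ideal.Quotient.mkₐ R J)]
  exact Ideal.Quotient.eq.2 hJ

omit [IsDomain R] in
theorem smul_eq_two_mul {A : Type u} [CommRing A] [Algebra R A] (c : ℕ) [c.AtLeastTwo] (x : A) :
    (OfNat.ofNat c : R) • x = OfNat.ofNat c * x := by
  rw [Algebra.smul_def, map_ofNat]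

include ha in
omit [IsDomain R] in
theorem smooth_coord : Algebra.Smooth R (Coord a false) :=
  ⟨formallySmooth_regular ha (by simp), inferInstance⟩

include ha in
theorem dickson_idem (h2 : (2 : R) ≠ 0) {d : Coord a false}
    (hd : (genH a false).det = 1 - 2 * d) : d * d = d := by
  have hsq := det_sq_eq_one ha (good_genH a false).1
  rw [hd] at hsq
  haveI := smooth_coord a ha
  have h4 : (4 : R) • (d * d - d) = 0 := by
    refine (smul_eq_two_mul (R := R) (A := Coord a false) 4 _).trans ?_
    linear_combination hsq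
  exact sub_eq_zero.1 ((smul_eq_zero.1 h4).resolve_left (by
    rw [show (4 : R) = 2 * 2 by norm_num]
    exact mul_ne_zero h2 h2))

include ha in
theorem isReduced_coord (h2 : (2 : R) ≠ 0) (hp : (Ideal.span {(2 : R)}).IsPrime) :
    _root_.IsReduced (Coord a true) := by
  obtain ⟨d, hd⟩ := exists_dickson a ha
  have hid := dickson_idem a ha h2 hd
  haveI := smooth_coord a ha
  haveI hred : _root_.IsReduced (Coord a false) := SmoothRed.isReduced_of_smooth R (Coord a false)
  let J : Ideal (Coord a false) := Ideal.span {2 * d}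
  have hgood : Good a true (Coord a false ⧸ J) ((genH a false).map (Ideal.Quotient.mkₐ R J)) :=
    good_quot a J (good_genH a false) (by
      rw [hd, sub_sub_cancel_left]
      exact J.neg_mem (Ideal.mem_span_singleton_self _))
  obtain ⟨ψ, hψ⟩ := exists_hom hgood
  obtain ⟨π, hπ⟩ := exists_hom (a := a) (sp := false) (G := genH a true)
    ⟨(good_genH a true).1, (good_genH a true).2.1, fun h => absurd h (by simp)⟩
  have hπd : π (2 * d) = 0 := by
    have h := congrArg π hd
    rw [map_sub, map_one, show π (genH a false).det = (genH a true).det from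
      (π.toRingHom.map_det _).trans (congrArg Matrix.det hπ), (good_genH a true).2.2 rfl] at h
    linear_combination h
  let χ : Coord a false ⧸ J →ₐ[R] Coord a true := Ideal.Quotient.liftₐ J π (by
    intro x hx
    obtain ⟨c, rfl⟩ := Ideal.mem_span_singleton'.1 hx
    rw [map_mul, hπd, mul_zero])
  have hχψ : χ.comp ψ = AlgHom.id R _ := by
    refine hom_ext ?_
    rw [AlgHom.coe_comp, ← Matrix.map_map, hψ, Matrix.map_map]
    exact hπ.trans (Matrix.map_id _).symm
  suffices h : _root_.IsReduced (Coord a false ⧸ J) from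
    isReduced_of_injective ψ (Function.LeftInverse.injective (g := χ) (AlgHom.congr_fun hχψ))
  refine ⟨fun x hx => ?_⟩
  obtain ⟨y, rfl⟩ := Ideal.Quotient.mk_surjective x
  obtain ⟨k, hk⟩ := hx
  rw [← map_pow, Ideal.Quotient.eq_zero_iff_mem, Ideal.mem_span_singleton'] at hk
  obtain ⟨w, hw⟩ := hk
  have hy2 : y ∈ (Ideal.span {(2 : R)}).map (algebraMap R (Coord a false)) := by
    haveI := hp
    haveI : _root_.IsReduced ((R ⧸ Ideal.span {(2 : R)}) ⊗[R] Coord a false) :=
      SmoothRed.isReduced_of_smooth (R ⧸ Ideal.span {(2 : R)})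
        ((R ⧸ Ideal.span {(2 : R)}) ⊗[R] Coord a false)
    haveI : _root_.IsReduced (Coord a false ⊗[R] (R ⧸ Ideal.span {(2 : R)})) :=
      isReduced_of_injective (Algebra.TensorProduct.comm R _ _)
        (Algebra.TensorProduct.comm R _ _).injective
    haveI : _root_.IsReduced (Coord a false ⧸ (Ideal.span {(2 : R)}).map (algebraMap R (Coord a false))) :=
      isReduced_of_injective
        (Algebra.TensorProduct.quotIdealMapEquivTensorQuot (Coord a false) (Ideal.span {(2 : R)}))
        (Algebra.TensorProduct.quotIdealMapEquivTensorQuot _ _).injective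
    rw [← Ideal.Quotient.eq_zero_iff_mem]
    refine IsNilpotent.eq_zero ⟨k, ?_⟩
    rw [← map_pow, Ideal.Quotient.eq_zero_iff_mem, ← hw, Ideal.map_span, Set.image_singleton,
      Ideal.mem_span_singleton']
    exact ⟨w * d, by rw [map_ofNat]; ring⟩
  rw [Ideal.map_span, Set.image_singleton, map_ofNat, Ideal.mem_span_singleton'] at hy2
  obtain ⟨z, hz⟩ := hy2
  have h0 : (1 - d) * y = 0 := IsNilpotent.eq_zero ⟨k + 1, by
    rw [pow_succ, mul_pow, ← hw]
    linear_combination (-2 * w * (1 - d) ^ k * y) * hid⟩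
  rw [Ideal.Quotient.eq_zero_iff_mem, Ideal.mem_span_singleton']
  exact ⟨z, by linear_combination d * hz - h0⟩

include ha in
omit [IsDomain R] in
theorem not_flat_coord [Nontrivial R] (h2 : ¬IsUnit (2 : R)) (hdom : (2 : R) ∈ nonZeroDivisors R)
    {g : Matrix (Fin n) (Fin n) R} (hg : Good a false R g) (hdet : g.det = -1) :
    ¬ Module.Flat R (Coord a true) := by
  intro hflat
  obtain ⟨d, hd⟩ := exists_dickson a ha
  obtain ⟨π, hπ⟩ := exists_hom (a := a) (sp := false) (G := genH a true)
    ⟨(good_genH a true).1, (good_genH a true).2.1, fun h => absurd h (by simp)⟩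
  obtain ⟨φ, hφ⟩ := exists_hom hg
  have hπd : (2 : R) • π d = 0 := by
    refine (smul_eq_two_mul (R := R) (A := Coord a true) 2 _).trans ?_
    have h := congrArg π hd
    rw [map_sub, map_one, map_mul, map_ofNat, show π (genH a false).det = (genH a true).det from
      (π.toRingHom.map_det _).trans (congrArg Matrix.det hπ), (good_genH a true).2.2 rfl] at h
    linear_combination h
  have hπd0 : π d = 0 := Module.IsTorsionFree.isSMulRegular
    (isRegular_iff_mem_nonZeroDivisors.2 hdom) (hπd.trans (smul_zero _).symm)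
  have hφd : (2 : R) * φ d = 2 := by
    have h := congrArg φ hd
    rw [map_sub, map_one, map_mul, map_ofNat, show φ (genH a false).det = g.det from
      (φ.toRingHom.map_det _).trans (congrArg Matrix.det hφ), hdet] at h
    linear_combination h
  have hd1 : φ d = 1 := by
    have h := mem_nonZeroDivisors_iff_right.1 hdom (φ d - 1) (by linear_combination hφd)
    exact sub_eq_zero.1 h
  obtain ⟨M, hM, hM2⟩ := exists_max_ideal_of_mem_nonunits h2
  let μ2 := Ideal.Quotient.mkₐ R M
  have hgood : Good a true (R ⧸ M) (g.map μ2) := by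
    refine ⟨(hg.map a false μ2).1, (hg.map a false μ2).2.1, fun _ => ?_⟩
    rw [← det_mk, hdet, ← map_one μ2]
    refine Ideal.Quotient.eq.2 ?_
    rw [show (-1 : R) - 1 = -2 by ring]
    exact M.neg_mem hM2
  obtain ⟨f, hf⟩ := exists_hom hgood
  have hcomp : f.comp π = μ2.comp φ := hom_ext (by
    rw [AlgHom.coe_comp, AlgHom.coe_comp, ← Matrix.map_map, ← Matrix.map_map, hπ, hφ, hf])
  have h := AlgHom.congr_fun hcomp d
  rw [AlgHom.comp_apply, AlgHom.comp_apply, hπd0, map_zero, hd1, map_one] at h
  exact hM.ne_top ((Ideal.eq_top_iff_one M).2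
    (Ideal.Quotient.eq_zero_iff_mem.1 ((map_one (Ideal.Quotient.mk M)).trans h.symm)))

end Integral

section Scheme

theorem isReduced_and_not_flat {R : Type u} [CommRing R] {H : Type u} [CommRing H] [Algebra R H]
    {G : Over (Spec (CommRingCat.of R))} (u : QuadGrp.specOver R H ⟶ G) [IsIso u]
    [_root_.IsReduced H] (hnf : ¬ Module.Flat R H) :
    AlgebraicGeometry.IsReduced G.left ∧ ¬ AlgebraicGeometry.Flat G.hom := by
  haveI : IsIso u.left := inferInstanceAs (IsIso ((Over.forget _).map u))
  haveI : AlgebraicGeometry.IsReduced (QuadGrp.specOver R H).left :=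
    inferInstanceAs (AlgebraicGeometry.IsReduced (Spec (CommRingCat.of H)))
  refine ⟨isReduced_of_isOpenImmersion (inv u.left), fun hf => hnf ?_⟩
  haveI : Flat (QuadGrp.specOver R H).hom := by
    rw [← Over.w u]
    infer_instance
  have h : Flat (Spec.map (CommRingCat.ofHom (algebraMap R H))) := this
  rw [HasRingHomProperty.Spec_iff (P := @Flat.{u}), CommRingCat.hom_ofHom,
    RingHom.flat_algebraMap_iff] at h
  exact h

end Scheme

end Groth.Agent.QuadSm
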