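import Groth.Agent.QuadSm.Affine
import Groth.Agent.QuadSm.Matrix
import Groth.Agent.QuadCentre.Coord
import Mathlib.LinearAlgebra.Matrix.ToLinearEquiv
import Mathlib.RingTheory.FinitePresentation
import Mathlib.RingTheory.Smooth.Basic

/-!
# The coordinate ring of an orthogonal group in matrices
-/

set_option autoImplicit false
noncomputable section

universe u

open Matrix CategoryTheory AlgebraicGeometry MonObj
open scoped TensorProduct
open Groth.Agent.QuadCentre

namespace Groth.Agent.QuadSm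

variable {R : Type u} [CommRing R] {n : ℕ}

section Coord

variable (a : Sym2 (Fin n) → R) (sp : Bool)

/-- Isometries of the table `a` over an algebra, of determinant one if `sp`. -/
def Good (A : Type u) [CommRing A] [Algebra R A] (G : Matrix (Fin n) (Fin n) A) : Prop :=
  transA (algebraMap R A ∘ a) G = algebraMap R A ∘ a ∧ IsUnit G.det ∧ (sp → G.det = 1)

theorem Good.map {A B : Type u} [CommRing A] [Algebra R A] [CommRing B] [Algebra R B]
    (φ : A →ₐ[R] B) {G : Matrix (Fin n) (Fin n) A} (h : Good a sp A G) :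
    Good a sp B (G.map φ) := by
  have hφ : φ ∘ (algebraMap R A ∘ a) = algebraMap R B ∘ a := funext fun v => φ.commutes _
  have hd : (G.map φ).det = φ G.det := (φ.toRingHom.map_det G).symm
  refine ⟨?_, hd ▸ h.2.1.map φ, fun hs => by rw [hd, h.2.2 hs, map_one]⟩
  have := congrArg (fun v => φ ∘ v) h.1
  rw [hφ] at this
  rw [← hφ, show G.map φ = G.map φ.toRingHom from rfl]
  exact (transA_map φ.toRingHom _ G).symm.trans (this.trans hφ.symm)

abbrev Poly (R : Type u) [CommRing R] (n : ℕ) := MvPolynomial ((Fin n × Fin n) ⊕ Unit) R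

/-- The matrix of variables. -/
def genG : Matrix (Fin n) (Fin n) (Poly R n) := Matrix.of fun i j => MvPolynomial.X (Sum.inl (i, j))

/-- The equations of the group. -/
def eqn : Sym2 (Fin n) ⊕ Bool → Poly R n
  | Sum.inl v => transA (algebraMap R (Poly R n) ∘ a) genG v - algebraMap R (Poly R n) (a v)
  | Sum.inr true => MvPolynomial.X (Sum.inr ()) * (genG (R := R) (n := n)).det - 1
  | Sum.inr false => if sp then (genG (R := R) (n := n)).det - 1 else 0

/-- The ideal of the group. -/
def eqnIdeal : Ideal (Poly R n) := Ideal.span (Set.range (eqn a sp))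

/-- The coordinate ring. -/
abbrev Coord : Type u := Poly R n ⧸ eqnIdeal a sp

instance : Algebra.FinitePresentation R (Coord a sp) :=
  Algebra.FinitePresentation.quotient (Submodule.fg_span (Set.finite_range _))

/-- The universal point. -/
def genH : Matrix (Fin n) (Fin n) (Coord a sp) := genG.map (Ideal.Quotient.mkₐ R (eqnIdeal a sp))

theorem mk_eqn (v : Sym2 (Fin n) ⊕ Bool) : Ideal.Quotient.mkₐ R (eqnIdeal a sp) (eqn a sp v) = 0 :=
  Ideal.Quotient.eq_zero_iff_mem.2 (Ideal.subset_span ⟨v, rfl⟩)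

theorem det_genH : (genH a sp).det = Ideal.Quotient.mkₐ R (eqnIdeal a sp) (genG (R := R) (n := n)).det :=
  ((Ideal.Quotient.mkₐ R (eqnIdeal a sp)).toRingHom.map_det genG).symm

theorem inv_mul_det_genH :
    Ideal.Quotient.mkₐ R (eqnIdeal a sp) (MvPolynomial.X (Sum.inr ())) * (genH a sp).det = 1 := by
  have := mk_eqn a sp (Sum.inr true)
  simp only [eqn, map_sub, map_mul, map_one] at this
  rw [det_genH]
  exact sub_eq_zero.1 this

theorem good_genH : Good a sp (Coord a sp) (genH a sp) := by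
  let qm := Ideal.Quotient.mkₐ R (eqnIdeal a sp)
  have hφ : qm ∘ (algebraMap R (Poly R n) ∘ a) = algebraMap R (Coord a sp) ∘ a :=
    funext fun v => qm.commutes _
  refine ⟨funext fun v => ?_, IsUnit.of_mul_eq_one_right _ (inv_mul_det_genH a sp), fun hs => ?_⟩
  · have h := mk_eqn a sp (Sum.inl v)
    simp only [eqn, map_sub, sub_eq_zero] at h
    rw [← hφ, show genH a sp = genG.map qm.toRingHom from rfl,
      show (qm : Poly R n → Coord a sp) = qm.toRingHom from rfl, ← transA_map]
    exact h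
  · have h := mk_eqn a sp (Sum.inr false)
    simp only [eqn, hs, if_true, map_sub, map_one, sub_eq_zero] at h
    rw [det_genH]
    exact h

variable {a sp} in
/-- The point of a matrix. -/
theorem exists_hom {A : Type u} [CommRing A] [Algebra R A] {G : Matrix (Fin n) (Fin n) A}
    (h : Good a sp A G) : ∃ φ : Coord a sp →ₐ[R] A, (genH a sp).map φ = G := by
  let φ₀ : Poly R n →ₐ[R] A :=
    MvPolynomial.aeval (Sum.elim (fun p => G p.1 p.2) fun _ => (↑h.2.1.unit⁻¹ : A))
  have hG : (genG (R := R) (n := n)).map φ₀ = G := by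
    ext i j
    simp [genG, φ₀]
  have hd : φ₀ (genG (R := R) (n := n)).det = G.det :=
    (φ₀.toRingHom.map_det genG).trans (congrArg Matrix.det hG)
  have hker : ∀ x ∈ eqnIdeal a sp, φ₀ x = 0 := by
    intro x hx
    induction hx using Submodule.span_induction with
    | mem y hy =>
      obtain ⟨v, rfl⟩ := hy
      rcases v with v | ⟨_ | _⟩
      · have hφ : φ₀ ∘ (algebraMap R (Poly R n) ∘ a) = algebraMap R A ∘ a :=
          funext fun v => φ₀.commutes _
        simp only [eqn, map_sub, sub_eq_zero]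
        have h1 := congrFun (transA_map φ₀.toRingHom (algebraMap R (Poly R n) ∘ a) genG) v
        refine h1.trans ?_
        rw [show (genG (R := R) (n := n)).map φ₀.toRingHom = G from hG,
          show φ₀.toRingHom ∘ (algebraMap R (Poly R n) ∘ a) = algebraMap R A ∘ a from hφ, h.1,
          AlgHom.commutes]
        rfl
      · cases sp with
        | false => simp [eqn]
        | true => simp [eqn, hd, h.2.2 rfl]
      · have hX : φ₀ (MvPolynomial.X (Sum.inr ())) = (↑h.2.1.unit⁻¹ : A) := by simp [φ₀]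
        simp [eqn, hd, hX]
    | zero => exact map_zero _
    | add y z _ _ hy hz => rw [map_add, hy, hz, add_zero]
    | smul c y _ hy => rw [smul_eq_mul, map_mul, hy, mul_zero]
  refine ⟨Ideal.Quotient.liftₐ _ φ₀ hker, ?_⟩
  ext i j
  rw [← hG]
  rfl

variable {a sp} in
theorem hom_ext {A : Type u} [CommRing A] [Algebra R A] {φ ψ : Coord a sp →ₐ[R] A}
    (h : (genH a sp).map φ = (genH a sp).map ψ) : φ = ψ := by
  refine Ideal.Quotient.algHom_ext _ (MvPolynomial.algHom_ext fun x => ?_)
  rcases x with ⟨i, j⟩ | ⟨⟩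
  · exact congrFun (congrFun h i) j
  · have h1 := congrArg φ (inv_mul_det_genH a sp)
    have h2 := congrArg ψ (inv_mul_det_genH a sp)
    rw [map_mul, map_one] at h1 h2
    have hd : φ (genH a sp).det = ψ (genH a sp).det :=
      (φ.toRingHom.map_det _).trans ((congrArg Matrix.det h).trans (ψ.toRingHom.map_det _).symm)
    rw [hd] at h1
    exact (left_inv_eq_right_inv h1 ((mul_comm _ _).trans h2) :)

/-- Formal smoothness by lifting matrices. -/
theorem formallySmooth_of_lift
    (hlift : ∀ (B : Type u) [CommRing B] [Algebra R B] (I : Ideal B), I ^ 2 = ⊥ →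
      ∀ G : Matrix (Fin n) (Fin n) (B ⧸ I), Good a sp (B ⧸ I) G →
        ∃ H, Good a sp B H ∧ H.map (Ideal.Quotient.mkₐ R I) = G) :
    Algebra.FormallySmooth R (Coord a sp) := by
  rw [Algebra.FormallySmooth.iff_comp_surjective]
  intro B _ _ I hI f
  obtain ⟨H, hH, hHG⟩ := hlift B I hI _ ((good_genH a sp).map a sp f)
  obtain ⟨φ, hφ⟩ := exists_hom hH
  refine ⟨φ, hom_ext ?_⟩
  rw [← hHG, ← hφ, Matrix.map_map]
  rfl

theorem lift_of_formallySmooth [Algebra.FormallySmooth R (Coord a sp)] (B : Type u) [CommRing B]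
    [Algebra R B] (I : Ideal B) (hI : I ^ 2 = ⊥) (G : Matrix (Fin n) (Fin n) (B ⧸ I))
    (hG : Good a sp (B ⧸ I) G) : ∃ H, Good a sp B H ∧ H.map (Ideal.Quotient.mkₐ R I) = G := by
  obtain ⟨f, hf⟩ := exists_hom hG
  obtain ⟨φ, hφ⟩ := Algebra.FormallySmooth.comp_surjective R (Coord a sp) I hI f
  refine ⟨_, (good_genH a sp).map a sp φ, ?_⟩
  rw [Matrix.map_map, ← hf, ← hφ]
  rfl

end Coord

section Forms

theorem form_ext {S : Type*} [CommRing S] {M : Type*} [AddCommGroup M] [Module S M]
    (b : Module.Basis (Fin n) S M) {Q Q' : QuadraticForm S M}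
    (h : QuadGrp.coeffs b (LinearEquiv.refl S S) Q = QuadGrp.coeffs b (LinearEquiv.refl S S) Q') :
    Q = Q' := by
  rw [← QuadraticMap.toQuadraticMap_toBilin Q b, ← QuadraticMap.toQuadraticMap_toBilin Q' b]
  congr 1
  refine b.ext fun i => b.ext fun j => ?_
  have := congrFun h (Sym2.mk i j)
  simp only [QuadGrp.coeffs_mk, LinearEquiv.refl_apply] at this
  rw [QuadraticMap.toBilin_apply, QuadraticMap.toBilin_apply]
  split_ifs with h1 h2 <;> simp_all

variable (Q : QuadraticForm R (Fin n → R)) (A : Type u) [CommRing A] [Algebra R A]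

/-- The table of a form in the standard basis. -/
abbrev table : Sym2 (Fin n) → R :=
  QuadGrp.coeffs (Pi.basisFun R (Fin n)) (LinearEquiv.refl R R) Q

theorem coeffs_baseChange :
    QuadGrp.coeffs (bA R n A) (LinearEquiv.refl A A) (QuadGrp.baseChangeForm A Q) =
      algebraMap R A ∘ table Q := by
  funext v
  induction v using Sym2.inductionOn with
  | hf i j =>
    simp only [Function.comp_apply, QuadGrp.coeffs_mk, LinearEquiv.refl_apply, bA_apply, table]
    split_ifs with h
    · rw [qA_tmul]; simp [stdVec]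
    · rw [polarA_tmul]; simp [stdVec]

/-- The matrix of an automorphism of `A ⊗ Rⁿ`. -/
abbrev mat (e : (A ⊗[R] (Fin n → R)) ≃ₗ[A] (A ⊗[R] (Fin n → R))) : Matrix (Fin n) (Fin n) A :=
  LinearMap.toMatrix (bA R n A) (bA R n A) e.toLinearMap

theorem isUnit_det_mat (e : (A ⊗[R] (Fin n → R)) ≃ₗ[A] (A ⊗[R] (Fin n → R))) :
    IsUnit (mat A e).det := by
  rw [LinearMap.det_toMatrix]
  exact LinearEquiv.isUnit_det' e

theorem det_eq_one_iff (e : (A ⊗[R] (Fin n → R)) ≃ₗ[A] (A ⊗[R] (Fin n → R))) :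
    LinearEquiv.det e = 1 ↔ (mat A e).det = 1 := by
  rw [← Units.val_inj, LinearEquiv.coe_det, Units.val_one, LinearMap.det_toMatrix]

theorem mem_orth_iff (e : (A ⊗[R] (Fin n → R)) ≃ₗ[A] (A ⊗[R] (Fin n → R))) :
    e ∈ QuadGrp.orth Q A ↔
      transA (algebraMap R A ∘ table Q) (mat A e) = algebraMap R A ∘ table Q := by
  rw [← coeffs_baseChange, ← coeffs_comp]
  refine ⟨fun h => congrArg _ (QuadraticMap.ext fun v => ?_),
    fun h => mem_O_baseChange Q A e fun v => ?_⟩
  · exact congrArg (TensorProduct.AlgebraTensorModule.rid R A A) (h v)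
  · exact congrFun (congrArg DFunLike.coe (form_ext (bA R n A) h)) v

theorem mem_sorth'_iff (e : (A ⊗[R] (Fin n → R)) ≃ₗ[A] (A ⊗[R] (Fin n → R))) :
    e ∈ QuadGrp.sorth' Q A ↔ Good (table Q) true A (mat A e) := by
  rw [QuadGrp.sorth', QuadGrp.SO', Subgroup.mem_inf, MonoidHom.mem_ker, det_eq_one_iff]
  refine ⟨fun h => ⟨(mem_orth_iff Q A e).1 h.1, isUnit_det_mat A e, fun _ => h.2⟩,
    fun h => ⟨(mem_orth_iff Q A e).2 h.1, h.2.2 rfl⟩⟩

theorem mem_orth_iff_good (e : (A ⊗[R] (Fin n → R)) ≃ₗ[A] (A ⊗[R] (Fin n → R))) :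
    e ∈ QuadGrp.orth Q A ↔ Good (table Q) false A (mat A e) :=
  ⟨fun h => ⟨(mem_orth_iff Q A e).1 h, isUnit_det_mat A e, fun h' => absurd h' (by simp)⟩,
    fun h => (mem_orth_iff Q A e).2 h.1⟩

theorem repr_rTensor {B : Type u} [CommRing B] [Algebra R B] (φ : A →ₐ[R] B)
    (z : A ⊗[R] (Fin n → R)) (i : Fin n) :
    (bA R n B).repr (LinearMap.rTensor (Fin n → R) φ.toLinearMap z) i = φ ((bA R n A).repr z i) := by
  induction z using TensorProduct.induction_on with
  | zero => simp
  | tmul x v => simp [bA, map_smul]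
  | add x y hx hy => simp [hx, hy]

end Forms

/-- A group scheme representing a group of matrices is the spectrum of its coordinate ring. -/
theorem exists_iso_coord {a : Sym2 (Fin n) → R} {sp : Bool}
    {S : ∀ (A : Type u) [CommRing A] [Algebra R A],
      Subgroup ((A ⊗[R] (Fin n → R)) ≃ₗ[A] (A ⊗[R] (Fin n → R)))}
    (hS : ∀ (A : Type u) [CommRing A] [Algebra R A]
      (e : (A ⊗[R] (Fin n → R)) ≃ₗ[A] (A ⊗[R] (Fin n → R))), e ∈ S A ↔ Good a sp A (mat A e))
    (G : Over (Spec (CommRingCat.of R))) [GrpObj G] (D : QuadGrp.LinRep R (Fin n → R) S G) :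
    ∃ u : QuadGrp.specOver R (Coord a sp) ⟶ G, IsIso u := by
  classical
  have hsurj : ∀ (A : Type u) [CommRing A] [Algebra R A] (M : Matrix (Fin n) (Fin n) A),
      Good a sp A M → ∃ e : S A, mat A e.1 = M := by
    intro A _ _ M hM
    refine ⟨⟨Matrix.toLinearEquiv (bA R n A) M hM.2.1, (hS A _).2 ?_⟩, ?_⟩ <;>
      rw [show mat A (Matrix.toLinearEquiv (bA R n A) M hM.2.1) = M from
        LinearMap.toMatrix_toLin _ _ M]
    exact hM
  obtain ⟨e₀, he₀⟩ := hsurj _ _ (good_genH a sp)
  let u : QuadGrp.specOver R (Coord a sp) ⟶ G := (D.pts (Coord a sp)).symm e₀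
  have hmat : ∀ (A : Type u) [CommRing A] [Algebra R A] (φ : Coord a sp →ₐ[R] A),
      mat A (D.pts A (QuadGrp.specOverMap R φ ≫ u)).1 = (genH a sp).map φ := by
    intro A _ _ φ
    ext i j
    rw [Matrix.map_apply, ← he₀]
    simp only [mat, LinearMap.toMatrix_apply, LinearEquiv.coe_coe]
    rw [bA_apply, bA_apply, ← repr_rTensor, D.natural _ _ φ u (stdVec R j)]
    simp only [u, MulEquiv.apply_symm_apply]
  have hiso : IsIso u := by
    refine isIso_of_points u fun A _ _ => ⟨fun f g hfg => ?_, fun y => ?_⟩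
    · obtain ⟨φ, rfl⟩ := specOverMap_surjective f
      obtain ⟨ψ, rfl⟩ := specOverMap_surjective g
      dsimp only at hfg
      rw [hom_ext (φ := φ) (ψ := ψ) (by rw [← hmat, ← hmat, hfg])]
    · obtain ⟨φ, hφ⟩ := exists_hom ((hS A _).1 (D.pts A y).2)
      refine ⟨QuadGrp.specOverMap R φ, (D.pts A).injective (Subtype.ext ?_)⟩
      refine LinearEquiv.toLinearMap_injective
        ((LinearMap.toMatrix (bA R n A) (bA R n A)).injective ?_)
      exact (hmat A φ).trans hφ
  exact ⟨u, hiso⟩

/-- A group scheme representing a group of matrices is smooth iff its coordinate ring is formally smooth. -/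
theorem smooth_iff_formallySmooth {a : Sym2 (Fin n) → R} {sp : Bool}
    {S : ∀ (A : Type u) [CommRing A] [Algebra R A],
      Subgroup ((A ⊗[R] (Fin n → R)) ≃ₗ[A] (A ⊗[R] (Fin n → R)))}
    (hS : ∀ (A : Type u) [CommRing A] [Algebra R A]
      (e : (A ⊗[R] (Fin n → R)) ≃ₗ[A] (A ⊗[R] (Fin n → R))), e ∈ S A ↔ Good a sp A (mat A e))
    (G : Over (Spec (CommRingCat.of R))) [GrpObj G] (D : QuadGrp.LinRep R (Fin n → R) S G) :
    Smooth G.hom ↔ Algebra.FormallySmooth R (Coord a sp) := by
  obtain ⟨u, hu⟩ := exists_iso_coord hS G D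
  exact smooth_iff_of_isIso u

end Groth.Agent.QuadSm
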