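import Groth.Agent.QuadSm.Rep
import Groth.Agent.QuadCentre.Main
import Mathlib.RingTheory.Ideal.Maximal
import Mathlib.Algebra.Polynomial.Coeff

/-!
# Smoothness of orthogonal groups: lifting criteria
-/

set_option autoImplicit false
noncomputable section

universe u

open Matrix
open Groth.Agent.QuadCentre

namespace Groth.Agent.QuadSm

variable {R : Type u} [CommRing R] {n : ℕ}

theorem transA_smul {S : Type*} [CommRing S] (a : Sym2 (Fin n) → S) (c : S)
    (G : Matrix (Fin n) (Fin n) S) : transA a (c • G) = (c * c) • transA a G := by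
  funext v
  induction v using Sym2.inductionOn with
  | hf i j =>
    simp only [Pi.smul_apply, transA_mk, transpose_smul, Matrix.smul_mul, Matrix.mul_smul, smul_smul,
      Matrix.smul_apply]
    split_ifs <;> rfl

theorem transA_one {S : Type*} [CommRing S] (a : Sym2 (Fin n) → S) : transA a 1 = a := by
  funext v
  induction v using Sym2.inductionOn with
  | hf i j =>
    rw [transA_mk, transpose_one, one_mul, mul_one, one_mul, mul_one]
    split_ifs with h
    · subst h; simp [triA]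
    · simp [polA, h]

theorem isUnit_polA_det_of_regular (Q : QuadraticForm R (Fin n → R)) (hQ : QuadGrp.IsRegular Q) :
    IsUnit (polA (table Q)).det := by
  choose d hd using fun j => dual_of_isRegular Q hQ j
  refine Matrix.isUnit_det_of_right_inverse (B := Matrix.of fun l j => d j l) ?_
  ext i j
  rw [Matrix.mul_apply, Matrix.one_apply, ← hd j i]
  refine Finset.sum_congr rfl fun l _ => ?_
  rw [of_apply, mul_comm]
  congr 1
  simp only [polA, of_apply, table, QuadGrp.coeffs_mk, LinearEquiv.refl_apply, polMat,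
    Pi.basisFun_apply, stdVec]
  split_ifs with h
  · subst h; simp [QuadraticMap.polar_self]
  · rfl

theorem isUnit_polA_det (Q : QuadraticForm R (Fin n → R))
    (hQ : QuadGrp.IsNondeg (Pi.basisFun R (Fin n)) (LinearEquiv.refl R R) Q)
    (h : Even n ∨ IsUnit (2 : R)) : IsUnit (polA (table Q)).det := by
  by_cases hn : Even n
  · exact isUnit_polA_det_of_regular Q (hQ.1 hn)
  · have hn' : Odd n := Nat.not_even_iff_odd.1 hn
    rw [← two_mul_hdA hn']
    exact (h.resolve_left hn).mul (hQ.2 hn')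

section Lift

variable {a : Sym2 (Fin n) → R} {B : Type u} [CommRing B] [Algebra R B] {I : Ideal B}

theorem mul_eq_zero_of_mem (hI : I ^ 2 = ⊥) : ∀ x ∈ I, ∀ y ∈ I, x * y = 0 := fun x hx y hy => by
  have h := Ideal.mul_mem_mul hx hy
  rwa [← pow_two, hI, Ideal.mem_bot] at h

theorem isUnit_of_mk (hI : I ^ 2 = ⊥) {x : B} (h : IsUnit (Ideal.Quotient.mkₐ R I x)) : IsUnit x := by
  obtain ⟨y, hy⟩ := isUnit_iff_exists_inv.1 h
  obtain ⟨y, rfl⟩ := Ideal.Quotient.mkₐ_surjective R I y
  rw [← map_mul, ← map_one (Ideal.Quotient.mkₐ R I)] at hy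
  have hm : x * y - 1 ∈ I := Ideal.Quotient.eq.1 hy
  refine IsUnit.of_mul_eq_one (y * (1 - (x * y - 1))) ?_
  have h0 := mul_eq_zero_of_mem hI _ hm _ hm
  linear_combination -h0

theorem mk_ext_iff {H G : Matrix (Fin n) (Fin n) B} :
    H.map (Ideal.Quotient.mkₐ R I) = G.map (Ideal.Quotient.mkₐ R I) ↔ ∀ i j, H i j - G i j ∈ I := by
  rw [← Matrix.ext_iff]
  exact forall₂_congr fun i j => Ideal.Quotient.eq

theorem det_mk (H : Matrix (Fin n) (Fin n) B) :
    Ideal.Quotient.mkₐ R I H.det = (H.map (Ideal.Quotient.mkₐ R I)).det :=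
  (Ideal.Quotient.mkₐ R I).toRingHom.map_det H

variable {sp : Bool}

theorem exists_rep {G : Matrix (Fin n) (Fin n) (B ⧸ I)} (hG : Good a sp (B ⧸ I) G) :
    ∃ G₀ : Matrix (Fin n) (Fin n) B, G₀.map (Ideal.Quotient.mkₐ R I) = G ∧
      ∀ v, (transA (algebraMap R B ∘ a) G₀ - algebraMap R B ∘ a) v ∈ I := by
  choose G₀ hG₀ using fun i j => Ideal.Quotient.mkₐ_surjective R I (G i j)
  refine ⟨Matrix.of G₀, Matrix.ext hG₀, fun v => ?_⟩
  rw [Pi.sub_apply, ← Ideal.Quotient.eq]
  have hφ : (Ideal.Quotient.mkₐ R I).toRingHom ∘ (algebraMap R B ∘ a) = algebraMap R (B ⧸ I) ∘ a :=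
    funext fun v => (Ideal.Quotient.mkₐ R I).commutes _
  have h := congrFun (transA_map (Ideal.Quotient.mkₐ R I).toRingHom (algebraMap R B ∘ a) (Matrix.of G₀)) v
  rw [hφ, show (Matrix.of G₀).map (Ideal.Quotient.mkₐ R I).toRingHom = G from Matrix.ext hG₀, hG.1] at h
  exact h.trans ((Ideal.Quotient.mkₐ R I).commutes (a v)).symm

theorem det_sq_eq_one (ha : IsUnit (polA a).det) {H : Matrix (Fin n) (Fin n) B}
    (hH : transA (algebraMap R B ∘ a) H = algebraMap R B ∘ a) : H.det * H.det = 1 := by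
  have hu : IsUnit (polA (algebraMap R B ∘ a)).det := by
    rw [← polA_map, ← RingHom.mapMatrix_apply, ← RingHom.map_det]
    exact ha.map _
  have h := congrArg (fun t => (polA t).det) hH
  simp only [polA_transA, det_mul, det_transpose] at h
  refine hu.mul_right_cancel ?_
  rw [one_mul]
  linear_combination h

theorem det_sq_eq_one_odd (hn : Odd n) (ha : IsUnit (hdA a)) {H : Matrix (Fin n) (Fin n) B}
    (hH : transA (algebraMap R B ∘ a) H = algebraMap R B ∘ a) : H.det * H.det = 1 := by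
  have hu : IsUnit (hdA (algebraMap R B ∘ a)) := hdA_map (algebraMap R B) a ▸ ha.map _
  have h := congrArg hdA hH
  rw [hdA_transA hn] at h
  refine hu.mul_right_cancel ?_
  rw [one_mul]
  linear_combination h

/-- Lifting when the polar form is perfect. -/
theorem lift_regular (ha : IsUnit (polA a).det) (h2 : sp → IsUnit (2 : R)) (hI : I ^ 2 = ⊥)
    {G : Matrix (Fin n) (Fin n) (B ⧸ I)} (hG : Good a sp (B ⧸ I) G) :
    ∃ H, Good a sp B H ∧ H.map (Ideal.Quotient.mkₐ R I) = G := by
  obtain ⟨G₀, hG₀, hE⟩ := exists_rep hG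
  have hu : IsUnit (polA (algebraMap R B ∘ a)).det := by
    rw [← polA_map, ← RingHom.mapMatrix_apply, ← RingHom.map_det]
    exact ha.map _
  obtain ⟨H, hH, hHG⟩ := exists_lift (mul_eq_zero_of_mem hI) _ G₀ (mem_inImage_regular _ _ hE hu) hE
  have hmap : H.map (Ideal.Quotient.mkₐ R I) = G := hG₀ ▸ mk_ext_iff.2 hHG
  refine ⟨H, ⟨hH, isUnit_of_mk (R := R) hI ?_, fun hs => ?_⟩, hmap⟩
  · rw [det_mk, hmap]; exact hG.2.1
  · have h1 : H.det - 1 ∈ I := by
      rw [← Ideal.Quotient.eq, map_one]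
      exact (det_mk H).trans (by rw [hmap, hG.2.2 hs])
    have hsq := det_sq_eq_one ha hH
    have hu2 : IsUnit (H.det + 1) := isUnit_of_mk (R := R) hI (by
      have : Ideal.Quotient.mkₐ R I (H.det + 1) = algebraMap R (B ⧸ I) 2 := by
        rw [map_add, map_one, det_mk, hmap, hG.2.2 hs, map_ofNat, one_add_one_eq_two]
      rw [this]
      exact (h2 hs).map _)
    refine sub_eq_zero.1 ((hu2.mul_left_eq_zero).1 ?_)
    linear_combination hsq

/-- Lifting in odd rank with determinant one. -/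
theorem lift_odd (hn : Odd n) (ha : IsUnit (hdA a)) (hI : I ^ 2 = ⊥)
    {G : Matrix (Fin n) (Fin n) (B ⧸ I)} (hG : Good a true (B ⧸ I) G) :
    ∃ H, Good a true B H ∧ H.map (Ideal.Quotient.mkₐ R I) = G := by
  obtain ⟨G₀, hG₀, hE⟩ := exists_rep hG
  have hu : IsUnit (hdA (algebraMap R B ∘ a)) := hdA_map (algebraMap R B) a ▸ ha.map _
  have hI' := mul_eq_zero_of_mem hI
  set a' := algebraMap R B ∘ a
  set E := transA a' G₀ - a' with hEdef
  have hδ : G₀.det - 1 ∈ I := by
    rw [← Ideal.Quotient.eq, map_one]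
    exact (det_mk G₀).trans (by rw [hG₀, hG.2.2 rfl])
  have hadd := hdA_add_of_sq_zero hn a' E fun v w => hI' _ (hE v) _ (hE w)
  rw [show a' + E = transA a' G₀ by rw [hEdef]; abel, hdA_transA hn] at hadd
  have hE2 : ((polA a').adjugate * triA E).trace = 2 * (G₀.det - 1) * hdA a' := by
    linear_combination (-1 : B) * hadd + hdA a' * hI' _ hδ _ hδ
  obtain ⟨H, hH, hHG⟩ := exists_lift hI' _ G₀ (mem_inImage_odd a' E hE hn hu _ hδ hE2) hE
  have hmap : H.map (Ideal.Quotient.mkₐ R I) = G := hG₀ ▸ mk_ext_iff.2 hHG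
  have hsq := det_sq_eq_one_odd hn ha hH
  have hc : Ideal.Quotient.mkₐ R I H.det = 1 := by rw [det_mk, hmap, hG.2.2 rfl]
  obtain ⟨m, hm⟩ := id hn
  have hdet : (H.det • H).det = 1 := by
    rw [det_smul, Fintype.card_fin, ← pow_succ, show n + 1 = 2 * (m + 1) by omega, pow_mul, pow_two,
      hsq, one_pow]
  refine ⟨H.det • H, ⟨?_, hdet ▸ isUnit_one, fun _ => hdet⟩, ?_⟩
  · rw [transA_smul, hsq, one_smul, hH]
  · rw [← hmap]
    ext i j
    rw [Matrix.map_apply, Matrix.smul_apply, smul_eq_mul, map_mul, hc, one_mul, Matrix.map_apply]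

end Lift

theorem formallySmooth_regular {a : Sym2 (Fin n) → R} {sp : Bool} (ha : IsUnit (polA a).det)
    (h2 : sp → IsUnit (2 : R)) : Algebra.FormallySmooth R (Coord a sp) :=
  formallySmooth_of_lift a sp fun _ _ _ _ hI _ hG => lift_regular ha h2 hI hG

theorem formallySmooth_odd {a : Sym2 (Fin n) → R} (hn : Odd n) (ha : IsUnit (hdA a)) :
    Algebra.FormallySmooth R (Coord a true) :=
  formallySmooth_of_lift a true fun _ _ _ _ hI _ hG => lift_odd hn ha hI hG

theorem eq_zero_of_lift {a : Sym2 (Fin n) → R} (hn : Odd n) (ha : IsUnit (hdA a))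
    [Algebra.FormallySmooth R (Coord a false)] {B : Type u} [CommRing B] [Algebra R B] (x : B)
    (hx3 : x ^ 3 = 0) (h2B : (2 : B) = 0) : x ^ 2 = 0 := by
  let I : Ideal B := Ideal.span {x ^ 2}
  have hI : I ^ 2 = ⊥ := by
    rw [Ideal.span_singleton_pow, Ideal.span_singleton_eq_bot]
    linear_combination x * hx3
  let c : B := 1 + x
  let qI := Ideal.Quotient.mkₐ R I
  have hc2 : qI c * qI c = 1 := by
    rw [← map_mul, ← map_one qI]
    refine Ideal.Quotient.eq.2 ?_
    rw [show c * c - 1 = x ^ 2 from by simp only [c]; linear_combination x * h2B]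
    exact Ideal.mem_span_singleton_self _
  have hG : Good a false (B ⧸ I) (qI c • 1) := by
    refine ⟨by rw [transA_smul, hc2, one_smul, transA_one], ?_, fun h => absurd h (by simp)⟩
    rw [det_smul, det_one, mul_one]
    exact (IsUnit.of_mul_eq_one _ hc2).pow _
  obtain ⟨H, hH, hHG⟩ := lift_of_formallySmooth a false B I hI _ hG
  have hsq := det_sq_eq_one_odd hn ha hH.1
  have hy : H.det - c ^ n ∈ I := by
    rw [← Ideal.Quotient.eq]
    refine (det_mk (R := R) H).trans ?_
    rw [hHG, det_smul, det_one, mul_one, Fintype.card_fin, ← map_pow]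
    rfl
  obtain ⟨t, ht⟩ := Ideal.mem_span_singleton'.1 hy
  obtain ⟨r, hr⟩ := id hn
  have hc2' : c ^ 2 = 1 + x ^ 2 := by simp only [c]; linear_combination x * h2B
  have hpow : ∀ j : ℕ, (1 + x ^ 2) ^ j = 1 + (j : B) * x ^ 2 := by
    intro j
    induction j with
    | zero => simp
    | succ j ih =>
      rw [pow_succ, ih, Nat.cast_succ]
      linear_combination (j : B) * x * hx3
  have hn1 : ((n : ℕ) : B) = 1 := by
    rw [hr, Nat.cast_add, Nat.cast_mul, Nat.cast_ofNat, h2B, zero_mul, zero_add, Nat.cast_one]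
  have hdet : H.det = c ^ n + t * x ^ 2 := by linear_combination (-1 : B) * ht
  rw [hdet, ← pow_two, add_sq, ← pow_mul, mul_comm n 2, pow_mul, hc2', hpow, hn1] at hsq
  linear_combination hsq - t * c ^ n * x ^ 2 * h2B - t ^ 2 * x * hx3

/-- In odd rank the orthogonal group is not smooth where two is not a unit. -/
theorem isUnit_two_of_formallySmooth {a : Sym2 (Fin n) → R} (hn : Odd n) (ha : IsUnit (hdA a))
    [Algebra.FormallySmooth R (Coord a false)] : IsUnit (2 : R) := by
  by_contra h2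
  obtain ⟨m, hm, hm2⟩ := exists_max_ideal_of_mem_nonunits h2
  let J : Ideal (Polynomial (R ⧸ m)) := Ideal.span {(Polynomial.X : Polynomial (R ⧸ m)) ^ 3}
  have h := eq_zero_of_lift hn ha (B := Polynomial (R ⧸ m) ⧸ J) (Ideal.Quotient.mk J Polynomial.X)
    (by
      rw [← map_pow, Ideal.Quotient.eq_zero_iff_mem]
      exact Ideal.mem_span_singleton_self _)
    (by
      rw [← map_ofNat (algebraMap R (Polynomial (R ⧸ m) ⧸ J)) 2,
        IsScalarTower.algebraMap_apply R (R ⧸ m) (Polynomial (R ⧸ m) ⧸ J),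
        show algebraMap R (R ⧸ m) 2 = 0 from Ideal.Quotient.eq_zero_iff_mem.2 hm2, map_zero])
  rw [← map_pow, Ideal.Quotient.eq_zero_iff_mem, Ideal.mem_span_singleton,
    Polynomial.X_pow_dvd_iff] at h
  have h' := h 2 (by omega)
  rw [Polynomial.coeff_X_pow_self] at h'
  exact hm.ne_top ((Ideal.eq_top_iff_one m).2
    (Ideal.Quotient.eq_zero_iff_mem.1 ((map_one _).trans h')))

end Groth.Agent.QuadSm
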